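import Cfsg.Agent.Lib.IsometryTwo.Basic

/-!
Congruence of alternating functionals on cyclic modules in characteristic two.
-/

set_option autoImplicit false
set_option linter.unusedSectionVars false

namespace CfsgLib.IsometryTwo

open Polynomial CfsgLib.IsometryClasses

universe u

variable {K : Type u} [Field K] {N e : ℕ}

/-- The functional of an alternating cyclic module. -/
structure Alt (N e : ℕ) (L : K[X] →ₗ[K] K) : Prop where
  kill : ∀ r, (uu K) ^ e ∣ r → L r = 0
  alt : ∀ r, L (rev N r * r) = 0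

/-- Agreement on an ideal. -/
def Agree (j : ℕ) (L L' : K[X] →ₗ[K] K) : Prop := ∀ r, (uu K) ^ j ∣ r → L r = L' r

/-- Multiplication of the argument. -/
noncomputable def mulF (n : K[X]) (L : K[X] →ₗ[K] K) : K[X] →ₗ[K] K := L.comp (LinearMap.mulRight K n)

theorem mulF_apply (n : K[X]) (L : K[X] →ₗ[K] K) (r : K[X]) : mulF n L r = L (r * n) := rfl

theorem apply_C_mul (L : K[X] →ₗ[K] K) (c : K) (r : K[X]) : L (C c * r) = c * L r := by
  rw [← smul_eq_C_mul, map_smul, smul_eq_mul]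

theorem apply_congr {L : K[X] →ₗ[K] K} {j : ℕ} (h : ∀ r, (uu K) ^ j ∣ r → L r = 0) {r s : K[X]}
    (hrs : (uu K) ^ j ∣ r - s) : L r = L s := by
  have := h _ hrs
  rwa [map_sub, sub_eq_zero] at this

theorem Alt.eq_of_dvd {L : K[X] →ₗ[K] K} (h : Alt N e L) {r s : K[X]} (hrs : (uu K) ^ e ∣ r - s) : L r = L s :=
  apply_congr h.kill hrs

theorem Alt.one {L : K[X] →ₗ[K] K} (h : Alt N e L) : L 1 = 0 := by
  have := h.alt 1
  rwa [rev_one, mul_one] at this

theorem Alt.rev_eq {L : K[X] →ₗ[K] K} (h : Alt N e L) (h2 : (2 : K) = 0) (r : K[X]) : L (rev N r) = L r := by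
  have h1 := h.alt (r + 1)
  rw [rev_add, rev_one, show (rev N r + 1) * (r + 1) = rev N r * r + rev N r + r + 1 by ring, map_add, map_add,
    map_add, h.alt, h.one, zero_add, add_zero] at h1
  linear_combination h1 - L r * h2

theorem agree_top {L L' : K[X] →ₗ[K] K} (h : ∀ r, (uu K) ^ e ∣ r → L r = 0)
    (h' : ∀ r, (uu K) ^ e ∣ r → L' r = 0) : Agree e L L' := fun r hr => by rw [h r hr, h' r hr]

theorem agree_step {L L' : K[X] →ₗ[K] K} {j : ℕ} (hk : Agree (j + 1) L L')
    (h : L ((uu K) ^ j) = L' ((uu K) ^ j)) : Agree j L L' := by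
  rintro r ⟨s, rfl⟩
  have h1 := hk _ (uu_step s j)
  rw [map_sub, map_sub, apply_C_mul, apply_C_mul, h] at h1
  rw [mul_comm]
  exact sub_left_inj.mp h1

theorem agree_even (hN : 0 < N) (h2 : (2 : K) = 0) (hf : (uu K) ^ e ∣ X ^ N - 1) {L L' : K[X] →ₗ[K] K}
    (hL : Alt N e L) (hL' : Alt N e L') {j : ℕ} (hj : Even j) (hje : j + 1 ≤ e) (hk : Agree (j + 1) L L') :
    Agree j L L' := by
  obtain ⟨i, rfl⟩ := hj
  refine agree_step hk ?_
  have h1 : (uu K) ^ (i + i + 1) ∣ (uu K) ^ (i + i) - rev N ((uu K) ^ i) * (uu K) ^ i := by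
    rw [pow_add _ i i, ← sub_mul, show i + i + 1 = (i + 1) + i by ring, pow_add]
    exact mul_dvd_mul_right (dvd_sub_comm.mp (rev_uu_pow hN h2 ((pow_dvd_pow _ (by omega)).trans hf))) _
  have h3 := hk _ h1
  rw [map_sub, map_sub, hL.alt, hL'.alt, sub_zero, sub_zero] at h3
  exact h3

theorem Alt.mulNorm {L : K[X] →ₗ[K] K} (h : Alt N e L) (c : K[X]) : Alt N e (mulF (rev N c * c) L) := by
  refine ⟨fun r hr => h.kill _ (dvd_mul_of_dvd_left hr _), fun r => ?_⟩
  rw [mulF_apply, show rev N r * r * (rev N c * c) = rev N (r * c) * (r * c) by rw [rev_mul]; ring]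
  exact h.alt _

/-- The effect of a norm next to one. -/
theorem norm_shift (hN : 0 < N) (h2 : (2 : K) = 0) (hf : (uu K) ^ e ∣ X ^ N - 1) {L : K[X] →ₗ[K] K}
    (hL : Alt N e L) {j s : ℕ} (hs : Odd s) (hjs : j + s + 2 = e) (μ : K) :
    (∀ r, (uu K) ^ (j + 1) ∣ r →
      mulF (rev N (1 + C μ * (uu K) ^ s) * (1 + C μ * (uu K) ^ s)) L r = L r) ∧
    mulF (rev N (1 + C μ * (uu K) ^ s) * (1 + C μ * (uu K) ^ s)) L ((uu K) ^ j) =
      L ((uu K) ^ j) + μ * L ((uu K) ^ (e - 1)) + μ * μ * L ((uu K) ^ j * (rev N ((uu K) ^ s) * (uu K) ^ s)) := by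
  set u := uu K with hu
  have htr := tr_pow_odd hN h2 hs (show s + 2 ≤ e by omega) hf
  rw [← hu] at htr
  have hexp : rev N (1 + C μ * u ^ s) * (1 + C μ * u ^ s) =
      1 + C μ * (rev N (u ^ s) + u ^ s) + C μ * (C μ * (rev N (u ^ s) * u ^ s)) := by
    rw [rev_add, rev_one, rev_mul, rev_C]; ring
  have hrs : u ^ s ∣ rev N (u ^ s) := dvd_rev_uu hN (show s ≤ e by omega) hf dvd_rfl
  have hsum : u ^ (s + 1) ∣ rev N (u ^ s) + u ^ s := tr_dvd hN h2 (show s + 1 ≤ e by omega) hf dvd_rfl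
  constructor
  · intro r hr
    rw [mulF_apply, hexp, mul_add, mul_add, mul_one, map_add, map_add, hL.kill (r * (C μ * _)) ?_,
      hL.kill (r * (C μ * (C μ * _))) ?_, add_zero, add_zero]
    · rw [show e = (j + 1) + (s + 1) by omega, pow_add]
      refine mul_dvd_mul hr (dvd_mul_of_dvd_right (dvd_mul_of_dvd_right ?_ _) _)
      exact (pow_dvd_pow u (by obtain ⟨t, rfl⟩ := hs; omega : s + 1 ≤ s + s)).trans
        (by rw [pow_add]; exact mul_dvd_mul hrs dvd_rfl)
    · rw [show e = (j + 1) + (s + 1) by omega, pow_add]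
      exact mul_dvd_mul hr (dvd_mul_of_dvd_right hsum _)
  · rw [mulF_apply, hexp, mul_add, mul_add, mul_one, map_add, map_add, mul_left_comm (u ^ j) (C μ),
      apply_C_mul, mul_left_comm (u ^ j) (C μ) (C μ * _), apply_C_mul, mul_left_comm (u ^ j) (C μ), apply_C_mul,
      mul_assoc μ μ]
    congr 2
    rw [hL.eq_of_dvd (r := u ^ j * (rev N (u ^ s) + u ^ s)) (s := u ^ (e - 1)) ?_]
    rw [show e - 1 = j + (s + 1) by omega, pow_add u j (s + 1), ← mul_sub, show e = j + (s + 2) by omega, pow_add]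
    exact mul_dvd_mul_left _ htr

/-- Alternating cyclic functionals with equal leading invariants are congruent. -/
theorem exists_congr_cyc (hN : 0 < N) (h2 : (2 : K) = 0) (hf : (uu K) ^ e ∣ X ^ N - 1) {L₀ L₁ : K[X] →ₗ[K] K}
    (h₀ : Alt N e L₀) (h₁ : Alt N e L₁) (he : Even e) (he2 : 2 ≤ e) (hq₀ : L₀ ((uu K) ^ (e - 1)) = 1)
    (hq₁ : L₁ ((uu K) ^ (e - 1)) = 1)
    (h3 : 4 ≤ e → L₀ ((uu K) ^ (e - 3)) = L₁ ((uu K) ^ (e - 3))) :
    ∃ c, ∀ r, L₁ r = L₀ (r * (rev N c * c)) := by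
  set u := uu K with hu
  have a0 : Agree e L₁ L₀ := agree_top h₁.kill h₀.kill
  have a1 : Agree (e - 1) L₁ L₀ := agree_step (by rwa [show e - 1 + 1 = e by omega]) (hq₁.trans hq₀.symm)
  have a2 : Agree (e - 2) L₁ L₀ := agree_even hN h2 hf h₁ h₀ (by
      obtain ⟨k, rfl⟩ := he; exact ⟨k - 1, by omega⟩) (by omega) (by rwa [show e - 2 + 1 = e - 1 by omega])
  have base : ∃ j₀, j₀ + 3 ≤ e + 1 ∧ (j₀ = 0 ∨ j₀ + 3 ≤ e) ∧ Agree j₀ L₁ L₀ := by
    by_cases h4 : 4 ≤ e
    · exact ⟨e - 3, by omega, Or.inr (by omega),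
        agree_step (by rwa [show e - 3 + 1 = e - 2 by omega]) (h3 h4).symm⟩
    · obtain ⟨k, rfl⟩ := he
      exact ⟨0, by omega, Or.inl rfl, by rwa [show k + k - 2 = 0 by omega] at a2⟩
  obtain ⟨j₀, hj₀, hj₀', hA⟩ := base
  suffices h : ∀ d, d ≤ j₀ → ∃ c, Agree (j₀ - d) L₁ (mulF (rev N c * c) L₀) by
    obtain ⟨c, hc⟩ := h j₀ le_rfl
    exact ⟨c, fun r => hc r (by rw [Nat.sub_self, pow_zero]; exact one_dvd _)⟩
  intro d
  induction d with
  | zero => exact fun _ => ⟨1, fun r hr => by rw [mulF_apply, rev_one, mul_one, mul_one]; exact hA r hr⟩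
  | succ d ih =>
    intro hd
    obtain ⟨c, hc⟩ := ih (by omega)
    set L := mulF (rev N c * c) L₀ with hLdef
    have hL : Alt N e L := h₀.mulNorm c
    set j := j₀ - (d + 1) with hj
    have hc' : Agree (j + 1) L₁ L := by rwa [show j + 1 = j₀ - d by omega]
    rcases Nat.even_or_odd j with hev | hodd
    · exact ⟨c, agree_even hN h2 hf h₁ hL hev (by omega) hc'⟩
    · have hs : Odd (e - j - 2) := by
        obtain ⟨a, ha⟩ := he; obtain ⟨b, hb⟩ := hodd
        exact ⟨a - b - 2, by omega⟩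
      have hjs : j + (e - j - 2) + 2 = e := by omega
      have htop : L (u ^ (e - 1)) = 1 := by rw [← hc' _ (pow_dvd_pow u (by omega)), hq₁]
      set μ := L₁ (u ^ j) - L (u ^ j) with hμ
      obtain ⟨k1, k2⟩ := norm_shift hN h2 hf hL hs hjs μ
      rw [← hu, htop, mul_one, hL.kill (u ^ j * _) ?_, mul_zero, add_zero] at k2
      swap
      · obtain ⟨a, ha⟩ := he; obtain ⟨b, hb⟩ := hodd
        refine (pow_dvd_pow u (show e ≤ j + ((e - j - 2) + (e - j - 2)) by omega)).trans ?_
        rw [pow_add, pow_add]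
        exact mul_dvd_mul_left _ (mul_dvd_mul (dvd_rev_uu hN (by omega) hf dvd_rfl) dvd_rfl)
      set c' := 1 + C μ * u ^ (e - j - 2)
      refine ⟨c' * c, ?_⟩
      have hcomp : mulF (rev N (c' * c) * (c' * c)) L₀ = mulF (rev N c' * c') L := by
        refine LinearMap.ext fun r => ?_
        rw [hLdef, mulF_apply, mulF_apply, mulF_apply, rev_mul]
        congr 1
        ring
      rw [hcomp]
      refine agree_step (fun r hr => ?_) ?_
      · rw [k1 r hr]; exact hc' r hr
      · rw [k2, hμ]; ring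

/-- Scaling and the second invariant of a cyclic functional. -/
theorem norm_one_step (hN : 0 < N) (h2 : (2 : K) = 0) (hf : (uu K) ^ e ∣ X ^ N - 1) {L : K[X] →ₗ[K] K}
    (hL : Alt N e L) (he : 3 ≤ e) (l : K) :
    mulF (rev N (1 + C l * uu K) * (1 + C l * uu K)) L ((uu K) ^ (e - 1)) = L ((uu K) ^ (e - 1)) ∧
    mulF (rev N (1 + C l * uu K) * (1 + C l * uu K)) L ((uu K) ^ (e - 3)) =
      L ((uu K) ^ (e - 3)) + (l + l * l) * L ((uu K) ^ (e - 1)) := by
  obtain ⟨k1, k2⟩ := norm_shift hN h2 hf hL odd_one (show e - 3 + 1 + 2 = e by omega) l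
  rw [pow_one] at k1 k2
  refine ⟨k1 _ (pow_dvd_pow _ (by omega)), ?_⟩
  rw [k2, add_mul, add_assoc]
  congr 3
  refine hL.eq_of_dvd ?_
  set u := uu K with hu
  have h1 : u ^ 2 ∣ rev N u - u := by
    have := rev_uu_pow hN h2 (j := 1) ((pow_dvd_pow _ (show 1 + 1 ≤ e by omega)).trans hf)
    rwa [pow_one] at this
  rw [show u ^ (e - 3) * (rev N u * u) - u ^ (e - 1) = u ^ (e - 3) * u * (rev N u - u) by
    rw [show e - 1 = e - 3 + 2 by omega, pow_add]; ring]
  conv_lhs => rw [show e = e - 3 + 1 + 2 by omega, pow_add, pow_succ]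
  exact mul_dvd_mul_left _ h1

variable [Fintype K]

theorem exists_sq (h2 : (2 : K) = 0) (a : K) : ∃ c, c * c = a := by
  obtain ⟨c, hc⟩ := FiniteField.isSquare_of_char_two (F := K)
    ((CharP.ringChar_of_prime_eq_zero Nat.prime_two (by exact_mod_cast h2))) a
  exact ⟨c, hc.symm⟩

theorem exists_nonAS (h2 : (2 : K) = 0) : ∃ τ : K, ∀ l, l + l * l ≠ τ := by
  by_contra hne
  push_neg at hne
  have hinj : Function.Injective fun l : K => l + l * l :=
    Finite.injective_iff_surjective.mpr fun τ => hne τ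
  have h := @hinj 0 1 (by linear_combination -h2)
  exact zero_ne_one h

open Classical in
/-- A fixed element outside the image of the Artin–Schreier map. -/
noncomputable def tau0 (K : Type u) [Field K] : K :=
  if h : ∃ τ : K, ∀ l, l + l * l ≠ τ then h.choose else 0

theorem tau0_spec (h2 : (2 : K) = 0) (l : K) : l + l * l ≠ tau0 K := by
  rw [tau0, dif_pos (exists_nonAS h2)]
  exact (exists_nonAS h2).choose_spec l

/-- The image of the Artin–Schreier map has index two. -/
theorem as_dichotomy (h2 : (2 : K) = 0) (τ : K) : (∃ l, τ + (l + l * l) = 0) ∨ ∃ l, τ + (l + l * l) = tau0 K := by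
  classical
  have hneg : ∀ a : K, -a = a := fun a => by linear_combination -a * h2
  let φ : K →+ K :=
    { toFun := fun l => l + l * l
      map_zero' := by ring
      map_add' := fun a b => by linear_combination (a * b) * h2 }
  have hker : Nat.card φ.ker = 2 := by
    rw [show (φ.ker : AddSubgroup K) = φ.ker from rfl]
    have hset : (φ.ker : Set K) = {0, 1} := by
      ext l
      simp only [SetLike.mem_coe, AddMonoidHom.mem_ker, φ, AddMonoidHom.coe_mk, ZeroHom.coe_mk, Set.mem_insert_iff,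
        Set.mem_singleton_iff]
      constructor
      · intro h
        have h1 : l * (1 + l) = 0 := by linear_combination h
        rcases mul_eq_zero.mp h1 with h' | h'
        · exact Or.inl h'
        · exact Or.inr (by linear_combination h' - h2)
      · rintro (rfl | rfl)
        · ring
        · linear_combination h2
    rw [show Nat.card φ.ker = Set.ncard (φ.ker : Set K) from (Nat.card_coe_set_eq (φ.ker : Set K)), hset,
      Set.ncard_pair zero_ne_one]
  have hidx : φ.range.index = 2 := by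
    have a1 := AddSubgroup.card_mul_index φ.range
    have a2 := AddSubgroup.card_mul_index φ.ker
    rw [AddSubgroup.index_ker, hker] at a2
    have : 0 < Nat.card φ.range := Nat.card_pos
    exact Nat.eq_of_mul_eq_mul_left this (by rw [a1, ← a2, mul_comm])
  have hno : tau0 K ∉ φ.range := by
    rintro ⟨l, hl⟩
    exact tau0_spec h2 l hl
  by_cases hτ : τ ∈ φ.range
  · obtain ⟨l, hl⟩ := hτ
    exact Or.inl ⟨l, by rw [← hl]; show φ l + φ l = 0; linear_combination (φ l) * h2⟩
  · obtain ⟨l, hl⟩ := (AddSubgroup.add_mem_iff_of_index_two hidx (a := τ) (b := tau0 K)).mpr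
      ⟨fun h => absurd h hτ, fun h => absurd h hno⟩
    exact Or.inr ⟨l, by
      have : l + l * l = τ + tau0 K := hl
      linear_combination this + τ * h2⟩

end CfsgLib.IsometryTwo
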