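import Cfsg.Agent.Lib.IsometryClasses.Pieces

/-!
Isometries of alternating forms in characteristic two: the calculus at the eigenvalue one.
-/

set_option autoImplicit false
set_option linter.unusedSectionVars false

namespace CfsgLib.IsometryTwo

open Polynomial CfsgLib.IsometryClasses

universe u v

variable {K : Type u} [Field K] {N : ℕ}

/-- The unipotent prime. -/
noncomputable abbrev uu (K : Type u) [Field K] : K[X] := X - C 1

theorem uu_pm : IsPM (uu K) := Or.inl rfl

theorem uu_monic : (uu K).Monic := monic_X_sub_C 1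

theorem uu_irr : Irreducible (uu K) := irreducible_X_sub_C 1

theorem uu_du : du (uu K) = uu K := du_pm uu_pm

theorem uu_coeff_zero : (uu K).coeff 0 ≠ 0 := by simp

theorem two_poly (h2 : (2 : K) = 0) : (2 : K[X]) = 0 := by
  rw [← C_ofNat, h2, C_0]

theorem isPM_two (h2 : (2 : K) = 0) {p : K[X]} (h : IsPM p) : p = uu K := by
  rcases h with h | h
  · exact h
  · rw [h, show (-1 : K) = 1 by linear_combination -h2]

theorem dvd_uu_iff (r : K[X]) : uu K ∣ r ↔ r.eval 1 = 0 := dvd_iff_isRoot

theorem uu_step (r : K[X]) (j : ℕ) :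
    (uu K) ^ (j + 1) ∣ r * (uu K) ^ j - C (r.eval 1) * (uu K) ^ j := by
  rw [← sub_mul, pow_succ']
  exact mul_dvd_mul_right X_sub_C_dvd_sub_C_eval _

/-- The trace of the variable equals its norm. -/
theorem tr_eq_norm (hN : 0 < N) (h2 : (2 : K) = 0) :
    (X ^ N - 1 : K[X]) ∣ uu K + rev N (uu K) - uu K * rev N (uu K) := by
  have hx : (X : K[X]) ^ (N - 1) * X = X ^ N := by rw [← pow_succ, Nat.sub_add_cancel hN]
  refine ⟨-1, ?_⟩
  rw [uu, rev_sub, rev_X, rev_C, C_1]
  linear_combination -hx + (X ^ (N - 1) + X - 2) * two_poly h2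

/-- The adjoint fixes a power of the variable modulo the next power. -/
theorem rev_uu_pow (hN : 0 < N) (h2 : (2 : K) = 0) {j : ℕ} (hf : (uu K) ^ (j + 1) ∣ X ^ N - 1) :
    (uu K) ^ (j + 1) ∣ rev N ((uu K) ^ j) - (uu K) ^ j := by
  have h := rev_pm hN uu_pm (show 1 ≤ j + 1 by omega) hf
  rw [Nat.add_sub_cancel, show (-1 : K) = 1 by linear_combination -h2, one_pow, C_1, one_mul] at h
  exact h

/-- The adjoint preserves divisibility by powers of the variable. -/
theorem dvd_rev_uu (hN : 0 < N) {j e : ℕ} (hje : j ≤ e) (hf : (uu K) ^ e ∣ X ^ N - 1) {r : K[X]}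
    (h : (uu K) ^ j ∣ r) : (uu K) ^ j ∣ rev N r :=
  dvd_rev_self hN uu_coeff_zero uu_du ((pow_dvd_pow _ hje).trans hf) h

/-- The leading term of the trace of a power of the variable. -/
theorem tr_pow (hN : 0 < N) (h2 : (2 : K) = 0) : ∀ {i e : ℕ}, i + 2 ≤ e → (uu K) ^ e ∣ X ^ N - 1 →
    (uu K) ^ (i + 2) ∣ rev N ((uu K) ^ i) - (uu K) ^ i - (i : K[X]) * (uu K) ^ (i + 1) := by
  intro i
  induction i with
  | zero =>
    intro e _ _
    simp [rev_one]
  | succ i ih =>
    intro e he hf
    set u := uu K with hu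
    have h1 : u ^ (i + 3) ∣ X ^ N - 1 := (pow_dvd_pow u (by omega)).trans hf
    have h2' := rev_uu_pow hN h2 (j := 1) ((pow_dvd_pow _ (by omega : 1 + 1 ≤ e)).trans hf)
    rw [pow_one, ← hu] at h2'
    have hfst : u ^ 3 ∣ rev N u - u - u ^ 2 := by
      have a1 : u ^ 3 ∣ u + rev N u - u * rev N u :=
        ((pow_dvd_pow u (by omega : 3 ≤ e)).trans hf).trans (tr_eq_norm hN h2)
      have a2 : u ^ 3 ∣ u * (rev N u - u) := by
        rw [show 3 = (1 + 1) + 1 by rfl, pow_succ']
        exact mul_dvd_mul_left u h2'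
      rw [show rev N u - u - u ^ 2 = (u + rev N u - u * rev N u) + u * (rev N u - u) - u * 2 by ring,
        two_poly h2, mul_zero, sub_zero]
      exact dvd_add a1 a2
    have hi := ih (e := e) (by omega) hf
    rw [pow_succ u i, rev_mul]
    push_cast
    have key : rev N (u ^ i) * rev N u - u ^ i * u - ((i : K[X]) + 1) * u ^ (i + 1 + 1) =
        (rev N (u ^ i) - u ^ i - (i : K[X]) * u ^ (i + 1)) * rev N u +
          (i : K[X]) * u ^ (i + 1) * (rev N u - u) + u ^ i * (rev N u - u - u ^ 2) := by ring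
    rw [key]
    refine dvd_add (dvd_add ?_ ?_) ?_
    · rw [show i + 1 + 2 = (i + 2) + 1 by ring, pow_succ]
      refine mul_dvd_mul hi ?_
      have := dvd_rev_uu hN (show 1 ≤ e by omega) hf (r := u) (by rw [pow_one])
      rwa [pow_one, ← hu] at this
    · rw [mul_assoc, show i + 1 + 2 = (i + 1) + (1 + 1) by ring, pow_add]
      exact dvd_mul_of_dvd_right (mul_dvd_mul_left _ h2') _
    · rw [show i + 1 + 2 = i + 3 by ring, pow_add]
      exact mul_dvd_mul_left _ hfst

theorem natCast_odd (h2 : (2 : K) = 0) {i : ℕ} (hi : Odd i) : (i : K[X]) = 1 := by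
  obtain ⟨k, rfl⟩ := hi
  push_cast
  rw [two_poly h2, zero_mul, zero_add]

theorem tr_pow_odd (hN : 0 < N) (h2 : (2 : K) = 0) {i e : ℕ} (hi : Odd i) (he : i + 2 ≤ e)
    (hf : (uu K) ^ e ∣ X ^ N - 1) :
    (uu K) ^ (i + 2) ∣ rev N ((uu K) ^ i) + (uu K) ^ i - (uu K) ^ (i + 1) := by
  have h := tr_pow hN h2 he hf
  rw [natCast_odd h2 hi, one_mul] at h
  have e1 : rev N ((uu K) ^ i) + (uu K) ^ i = rev N ((uu K) ^ i) - (uu K) ^ i := by
    linear_combination (uu K) ^ i * two_poly h2
  rwa [e1]

/-- The trace of a multiple of a power of the variable. -/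
theorem tr_dvd (hN : 0 < N) (h2 : (2 : K) = 0) {j e : ℕ} (hje : j + 1 ≤ e) (hf : (uu K) ^ e ∣ X ^ N - 1)
    {r : K[X]} (h : (uu K) ^ j ∣ r) : (uu K) ^ (j + 1) ∣ rev N r + r := by
  obtain ⟨s, rfl⟩ := h
  set u := uu K with hu
  set c := s.eval 1
  have a1 : u ^ (j + 1) ∣ u ^ j * s - C c * u ^ j := by rw [mul_comm (u ^ j) s]; exact uu_step s j
  have a2 : u ^ (j + 1) ∣ rev N (u ^ j * s - C c * u ^ j) := dvd_rev_uu hN hje hf a1
  rw [rev_sub, rev_mul (C c), rev_C] at a2
  have a3 := rev_uu_pow hN h2 (j := j) ((pow_dvd_pow u hje).trans hf)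
  have e1 : rev N (u ^ j * s) + u ^ j * s = (rev N (u ^ j * s) - C c * rev N (u ^ j)) + (u ^ j * s - C c * u ^ j) +
      C c * (rev N (u ^ j) - u ^ j) + (C c * u ^ j) * 2 := by ring
  rw [e1, two_poly h2, mul_zero, add_zero]
  exact dvd_add (dvd_add a2 a1) (dvd_mul_of_dvd_right a3 _)

variable {V : Type v} [AddCommGroup V] [Module K V]

/-- An isometry of finite order of an alternating form in characteristic two. -/
structure Ctx2 (B : V →ₗ[K] V →ₗ[K] K) (x : Module.End K V) (N : ℕ) : Prop where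
  pos : 0 < N
  pow_eq : x ^ N = 1
  iso : ∀ u v, B (x u) (x v) = B u v
  alt : ∀ u, B u u = 0
  two : (2 : K) = 0

variable {B : V →ₗ[K] V →ₗ[K] K} {x : Module.End K V}

theorem Ctx2.symm (h : Ctx2 B x N) (u v : V) : B u v = B v u := by
  have h1 := h.alt (u + v)
  simp only [map_add, LinearMap.add_apply, h.alt u, h.alt v, zero_add, add_zero] at h1
  linear_combination h1 - B v u * h.two

theorem Ctx2.N_ne (h : Ctx2 B x N) : (X ^ N - 1 : K[X]) ≠ 0 := by
  rw [← C_1]
  exact X_pow_sub_C_ne_zero h.pos 1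

theorem Ctx2.kill (h : Ctx2 B x N) (u : V) : act x (X ^ N - 1) u = 0 := by
  simp [act, h.pow_eq]

theorem Ctx2.congr (h : Ctx2 B x N) {r s : K[X]} (hrs : (X ^ N - 1 : K[X]) ∣ r - s) (u : V) :
    act x r u = act x s u :=
  act_eq_of_dvd (h.kill u) hrs

theorem Ctx2.adj (h : Ctx2 B x N) (r : K[X]) : ∀ u v, B (act x r u) v = B u (act x (rev N r) v) := by
  induction r using Polynomial.induction_on' with
  | add a b ha hb => intro u v; rw [rev_add, act_add, act_add, map_add, map_add, LinearMap.add_apply, ha, hb]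
  | monomial i c =>
    intro u v
    have key : ∀ (i : ℕ) (u v : V), B ((x ^ i) u) v = B u ((x ^ ((N - 1) * i)) v) := by
      intro i
      induction i with
      | zero => intro u v; simp
      | succ i ih =>
        intro u v
        rw [pow_succ, Module.End.mul_apply, ih, mul_add, mul_one, add_comm, pow_add, Module.End.mul_apply]
        have h1 : ∀ a b, B (x a) b = B a ((x ^ (N - 1)) b) := fun a b => by
          conv_lhs => rw [show b = x ((x ^ (N - 1)) b) by
            rw [← Module.End.mul_apply, ← pow_succ', Nat.sub_add_cancel h.pos, h.pow_eq, Module.End.one_apply]]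
          rw [h.iso]
        rw [h1]
    simp [rev, act, ← C_mul_X_pow_eq_monomial, mul_comp, ← pow_mul, key]

theorem Ctx2.adj' (h : Ctx2 B x N) (r : K[X]) (u v : V) : B u (act x r v) = B (act x (rev N r) u) v := by
  rw [h.adj, h.congr (rev_rev h.pos r)]

theorem Ctx2.gram_act (h : Ctx2 B x N) (a b : K[X]) (u w : V) :
    B (act x a u) (act x b w) = gram B x u w (rev N a * b) := by
  rw [h.adj, gram_apply, act_mul]

theorem Ctx2.gram_swap (h : Ctx2 B x N) (u w : V) (r : K[X]) : gram B x u w r = gram B x w u (rev N r) := by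
  rw [gram_apply, gram_apply, h.symm, h.adj]

theorem Ctx2.gram_act_left (h : Ctx2 B x N) (a r : K[X]) (u w : V) :
    gram B x (act x a u) w r = gram B x u w (rev N a * r) := by
  rw [gram_apply, h.gram_act]

theorem gram_act_right (a r : K[X]) (u w : V) : gram B x u (act x a w) r = gram B x u w (r * a) := by
  rw [gram_apply, gram_apply, act_mul]

theorem gram_add_left (u u' w : V) (r : K[X]) : gram B x (u + u') w r = gram B x u w r + gram B x u' w r := by
  rw [gram_apply, gram_apply, gram_apply, map_add, LinearMap.add_apply]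

theorem gram_add_right (u w w' : V) (r : K[X]) : gram B x u (w + w') r = gram B x u w r + gram B x u w' r := by
  simp only [gram_apply, act, map_add]

theorem gram_smul_left (c : K) (u w : V) (r : K[X]) : gram B x (c • u) w r = c * gram B x u w r := by
  rw [gram_apply, gram_apply, map_smul, LinearMap.smul_apply, smul_eq_mul]

theorem gram_smul_right (c : K) (u w : V) (r : K[X]) : gram B x u (c • w) r = c * gram B x u w r := by
  simp only [gram_apply, act, map_smul, smul_eq_mul]

theorem Ctx2.orth_symm (h : Ctx2 B x N) {U W : Submodule K V} (hUW : Orth B U W) : Orth B W U :=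
  fun w hw u hu => by rw [h.symm, hUW u hu w hw]

theorem gram_orth {U W : Submodule K V} (hW : Inv x W) (hUW : Orth B U W) {u w : V} (hu : u ∈ U) (hw : w ∈ W)
    (r : K[X]) : gram B x u w r = 0 := hUW u hu _ (hW.act_mem r hw)

end CfsgLib.IsometryTwo
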