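import Cfsg.Agent.Lib.IsometryTwo.Exists

/-!
Preferred pieces at the eigenvalue one and the relations among them.
-/

set_option autoImplicit false
set_option linter.unusedSectionVars false

namespace CfsgLib.IsometryTwo

open Polynomial CfsgLib.IsometryClasses

universe u v

variable {K : Type u} [Field K] [Fintype K] {V : Type v} [AddCommGroup V] [Module K V]
  {B : V →ₗ[K] V →ₗ[K] K} {x : Module.End K V} {N : ℕ} {e : ℕ}

theorem alt_q_zero (h : Ctx2 B x N) (he : Odd e) {v : V} (hv : act x ((uu K) ^ e) v = 0) :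
    gram B x v v ((uu K) ^ (e - 1)) = 0 := by
  have he1 : 1 ≤ e := he.pos
  by_cases hne : act x ((uu K) ^ (e - 1)) v = 0
  · rw [gram_apply, hne, map_zero]
  have hf := exact_dvd uu_irr hv hne (h.kill v)
  obtain ⟨k, rfl⟩ := he
  have hA : Alt N (2 * k + 1) (0 : K[X] →ₗ[K] K) := ⟨fun _ _ => rfl, fun _ => rfl⟩
  exact agree_even h.pos h.two hf (h.gram_alt hv) hA ⟨k, by omega⟩ (by omega)
    (agree_top (fun r hr => gram_kill h hv v r (by rwa [show 2 * k + 1 - 1 + 1 = 2 * k + 1 by omega] at hr))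
      (fun _ _ => rfl)) _ dvd_rfl

theorem alt_second_zero (h : Ctx2 B x N) (he : Even e) (he2 : 2 ≤ e) {v : V} (hv : act x ((uu K) ^ e) v = 0)
    (hf : (uu K) ^ e ∣ X ^ N - 1) (hq : gram B x v v ((uu K) ^ (e - 1)) = 0) :
    gram B x v v ((uu K) ^ (e - 2)) = 0 := by
  have hA : Alt N e (0 : K[X] →ₗ[K] K) := ⟨fun _ _ => rfl, fun _ => rfl⟩
  obtain ⟨k, rfl⟩ := he
  refine agree_even h.pos h.two hf (h.gram_alt hv) hA ⟨k - 1, by omega⟩ (by omega) (fun r hr => ?_) _ dvd_rfl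
  rw [show k + k - 2 + 1 = k + k - 1 by omega] at hr
  exact zero_of_step (by omega) (gram_kill h hv v) hq hr

namespace Pair

variable {z w : V}

theorem smul (hp : Pair B x e z w) {c : K} (hc : c ≠ 0) : Pair B x e (c • z) (c⁻¹ • w) := by
  refine ⟨hp.he, ?_, ?_, ?_, ?_, ?_⟩
  · rw [act, map_smul, ← act, hp.kill_z, smul_zero]
  · rw [act, map_smul, ← act, hp.kill_w, smul_zero]
  · rw [gram_smul_left, gram_smul_right, hp.m, mul_one, inv_mul_cancel₀ hc]
  · rw [gram_smul_left, gram_smul_right, hp.qz, mul_zero, mul_zero]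
  · rw [gram_smul_left, gram_smul_right, hp.qw, mul_zero, mul_zero]

/-- The quadratic form on the top of a pair of odd exponent. -/
theorem addC (hp : Pair B x e z w) (h : Ctx2 B x N) (ho : Odd e) (he : 3 ≤ e) (a : K) :
    Pair B x e (z + a • w) w ∧ gram B x (z + a • w) (z + a • w) ((uu K) ^ (e - 2)) =
      gram B x z z ((uu K) ^ (e - 2)) + a + a * a * gram B x w w ((uu K) ^ (e - 2)) := by
  have hk : act x ((uu K) ^ e) (z + a • w) = 0 := by
    rw [act, map_add, map_smul, ← act, hp.kill_z, zero_add, ← act, hp.kill_w, smul_zero]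
  refine ⟨⟨hp.he, hk, hp.kill_w, ?_, alt_q_zero h ho hk, hp.qw⟩, ?_⟩
  · rw [gram_add_right, gram_smul_right, hp.m, hp.qw, mul_zero, add_zero]
  · set r := (uu K) ^ (e - 2) with hr
    have hodd : Odd (e - 2) := by obtain ⟨k, rfl⟩ := ho; exact ⟨k - 1, by omega⟩
    have hf := dvd_of_kill h hp
    have h1 : gram B x w z (rev N r + r) = 1 := by
      rw [apply_congr (gram_kill h hp.kill_z w) (s := (uu K) ^ (e - 2 + 1)) ?_,
        show e - 2 + 1 = e - 1 by omega, hp.m]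
      have := tr_pow_odd h.pos h.two hodd (show e - 2 + 2 ≤ e by omega) hf
      rwa [show e - 2 + 2 = e by omega] at this
    rw [map_add, ← h.gram_swap z w] at h1
    simp only [gram_add_left, gram_add_right, gram_smul_left, gram_smul_right]
    linear_combination a * h1

theorem toW_false (hp : Pair B x e z w) (h : Ctx2 B x N) (ho : Odd e) (he : 3 ≤ e)
    (h0 : gram B x z z ((uu K) ^ (e - 2)) = 0) :
    IsW B x e false z (w + (gram B x w w ((uu K) ^ (e - 2))) • z) := by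
  obtain ⟨h1, h2⟩ := (hp.swap h).addC h ho he (gram B x w w ((uu K) ^ (e - 2)))
  refine ⟨h1.swap h, fun _ => by simpa using h0, fun _ => ?_, by simp⟩
  rw [h2, h0, mul_zero, add_zero, tv]
  simp only [Bool.false_eq_true, if_false]
  linear_combination (gram B x w w ((uu K) ^ (e - 2))) * h.two

end Pair

/-- A pair of odd exponent gives a pair piece. -/
theorem exists_W_odd (h : Ctx2 B x N) {U : Submodule K V} (ho : Odd e) (he : 3 ≤ e) {z w : V}
    (hz : z ∈ U) (hw : w ∈ U) (hp : Pair B x e z w) :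
    (∃ z ∈ U, ∃ w ∈ U, IsW B x e false z w) ∨ ∃ z ∈ U, ∃ w ∈ U, IsW B x e true z w := by
  set γ := gram B x z z ((uu K) ^ (e - 2)) with hγ
  by_cases h0 : γ = 0
  · exact Or.inl ⟨z, hz, _, add_mem hw (U.smul_mem _ hz), hp.toW_false h ho he h0⟩
  obtain ⟨c, hc⟩ := exists_sq h.two γ⁻¹
  have hc0 : c ≠ 0 := fun hh => inv_ne_zero h0 (by rw [← hc, hh, mul_zero])
  have hp1 := hp.smul hc0
  have hz1 : gram B x (c • z) (c • z) ((uu K) ^ (e - 2)) = 1 := by
    rw [gram_smul_left, gram_smul_right, ← mul_assoc, hc, ← hγ, inv_mul_cancel₀ h0]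
  set τ := gram B x (c⁻¹ • w) (c⁻¹ • w) ((uu K) ^ (e - 2)) with hτ
  rcases as_dichotomy h.two τ with ⟨l, hl⟩ | ⟨l, hl⟩ <;>
    obtain ⟨h1, h2⟩ := (hp1.swap h).addC h ho he l <;>
    rw [hz1, ← hτ, mul_one, add_assoc, hl] at h2
  · refine Or.inl ⟨c⁻¹ • w + l • (c • z), add_mem (U.smul_mem _ hw) (U.smul_mem _ (U.smul_mem _ hz)),
      _, add_mem (U.smul_mem _ hz) (U.smul_mem _ (add_mem (U.smul_mem _ hw) (U.smul_mem _ (U.smul_mem _ hz)))),
      h1.toW_false h ho he h2⟩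
  · refine Or.inr ⟨c • z, U.smul_mem _ hz, _, add_mem (U.smul_mem _ hw) (U.smul_mem _ (U.smul_mem _ hz)),
      h1.swap h, fun _ => by simpa using hz1, fun _ => by rw [h2]; simp [tv], fun _ => ⟨ho, he⟩⟩

/-- A nonalternating top gives a cyclic piece. -/
theorem exists_V (h : Ctx2 B x N) {U : Submodule K V} (hU : Inv x U) (he : Even e) (he2 : 2 ≤ e) {v : V}
    (hv : v ∈ U) (hk : act x ((uu K) ^ e) v = 0) (hq : gram B x v v ((uu K) ^ (e - 1)) ≠ 0) :
    (∃ v ∈ U, IsV B x e false v) ∨ ∃ v ∈ U, IsV B x e true v := by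
  obtain ⟨c, hc⟩ := exists_sq h.two (gram B x v v ((uu K) ^ (e - 1)))⁻¹
  have hk1 : act x ((uu K) ^ e) (c • v) = 0 := by rw [act, map_smul, ← act, hk, smul_zero]
  have hq1 : gram B x (c • v) (c • v) ((uu K) ^ (e - 1)) = 1 := by
    rw [gram_smul_left, gram_smul_right, ← mul_assoc, hc, inv_mul_cancel₀ hq]
  by_cases h4 : 4 ≤ e
  swap
  · exact Or.inl ⟨c • v, U.smul_mem _ hv, he2, he, hk1, hq1, fun h => absurd h h4, by simp⟩
  have hf : (uu K) ^ e ∣ X ^ N - 1 :=
    exact_dvd uu_irr hk1 (gram_q_ne (w := c • v) ⟨1, by rw [one_mul, hq1]; exact one_ne_zero⟩) (h.kill _)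
  set τ := gram B x (c • v) (c • v) ((uu K) ^ (e - 3)) with hτ
  have mk : ∀ (l : K) (s : Bool), τ + (l + l * l) = tv K s → ∃ v ∈ U, IsV B x e s v := fun l s hl => by
    obtain ⟨a1, a2⟩ := norm_one_step h.pos h.two hf (h.gram_alt hk1) (show 3 ≤ e by omega) l
    have hg : ∀ r, gram B x (act x (1 + C l * uu K) (c • v)) (act x (1 + C l * uu K) (c • v)) r =
        mulF (rev N (1 + C l * uu K) * (1 + C l * uu K)) (gram B x (c • v) (c • v)) r := fun r => by
      rw [h.gram_act_left, gram_act_right, mulF_apply]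
      congr 1
      ring
    refine ⟨act x (1 + C l * uu K) (c • v), hU.act_mem _ (U.smul_mem c hv), he2, he, ?_, ?_, fun _ => ?_, fun _ => h4⟩
    · rw [act_mul_comm, hk1, act, map_zero]
    · rw [hg, a1, hq1]
    · rw [hg, a2, hq1, mul_one, ← hl]
  rcases as_dichotomy h.two τ with ⟨l, hl⟩ | ⟨l, hl⟩
  · exact Or.inl (mk l false (by rw [hl]; simp [tv]))
  · exact Or.inr (mk l true (by rw [hl]; simp [tv]))

variable {U : Submodule K V}

/-- Three orthogonal cyclic pieces contain a pair. -/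
theorem pair_of_three (h : Ctx2 B x N) {v₁ v₂ v₃ : V} {s₁ s₂ s₃ : Bool} (h₁ : IsV B x e s₁ v₁)
    (h₂ : IsV B x e s₂ v₂) (h₃ : IsV B x e s₃ v₃) (o12 : ∀ r, gram B x v₁ v₂ r = 0)
    (o13 : ∀ r, gram B x v₁ v₃ r = 0) (o23 : ∀ r, gram B x v₂ v₃ r = 0) :
    Pair B x e (v₁ + v₂) (v₂ + v₃) := by
  have o : ∀ {a b : V}, (∀ r, gram B x a b r = 0) → ∀ r, gram B x b a r = 0 := fun ho r => by
    rw [h.gram_swap, ho]
  refine ⟨le_trans (by norm_num) h₁.he, ?_, ?_, ?_, ?_, ?_⟩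
  · rw [act, map_add, ← act, h₁.kill, zero_add, ← act, h₂.kill]
  · rw [act, map_add, ← act, h₂.kill, zero_add, ← act, h₃.kill]
  · simp only [gram_add_left, gram_add_right, o o12, o o13, o o23, h₂.q, zero_add, add_zero]
  · simp only [gram_add_left, gram_add_right, o12, o o12, h₁.q, h₂.q, zero_add, add_zero]
    linear_combination h.two
  · simp only [gram_add_left, gram_add_right, o23, o o23, h₂.q, h₃.q, zero_add, add_zero]
    linear_combination h.two

/-- Two twisted cyclic pieces contain an untwisted one. -/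
theorem untwist_two (h : Ctx2 B x N) (hU : Inv x U) {v₁ v₂ : V} (h₁ : IsV B x e true v₁) (h₂ : IsV B x e true v₂)
    (m₁ : v₁ ∈ U) (m₂ : v₂ ∈ U) (o12 : ∀ r, gram B x v₁ v₂ r = 0) : ∃ v ∈ U, IsV B x e false v := by
  have h4 := h₁.hs rfl
  set a := tau0 K
  set b := 1 + a with hb
  have hf := (h₂.zero_iff _).mp (h.kill v₂)
  have hn : ∀ i, 1 ≤ i → (uu K) ^ e ∣ (uu K) ^ (e - i) * (rev N (C b + uu K) * (C b + uu K)) -
      (C (b * b) * (uu K) ^ (e - i) + C (b + 1) * ((uu K) ^ (e - i) * (rev N (uu K) * uu K))) := by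
    intro i _
    have hcb : C (b + 1) = C b + (1 : K[X]) := by simp
    rw [rev_add, rev_C, C_mul (a := b) (b := b), hcb, show (uu K) ^ (e - i) * ((C b + rev N (uu K)) * (C b + uu K)) -
      (C b * C b * (uu K) ^ (e - i) + (C b + 1) * ((uu K) ^ (e - i) * (rev N (uu K) * uu K))) =
      C b * (uu K) ^ (e - i) * (uu K + rev N (uu K) - uu K * rev N (uu K)) by ring]
    exact dvd_mul_of_dvd_right (hf.trans (tr_eq_norm h.pos h.two)) _
  set v := a • v₁ + act x (C b + uu K) v₂ with hv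
  have hk : act x ((uu K) ^ e) v = 0 := by
    rw [hv, act, map_add, map_smul, ← act, h₁.kill, smul_zero, zero_add, ← act, act_mul_comm, h₂.kill, act, map_zero]
  have o21 : ∀ r, gram B x v₂ v₁ r = 0 := fun r => by rw [h.gram_swap, o12]
  have hg : ∀ i, 1 ≤ i → gram B x v v ((uu K) ^ (e - i)) = a * a * gram B x v₁ v₁ ((uu K) ^ (e - i)) +
      b * b * gram B x v₂ v₂ ((uu K) ^ (e - i)) +
      (b + 1) * gram B x v₂ v₂ ((uu K) ^ (e - i) * (rev N (uu K) * uu K)) := fun i hi => by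
    rw [hv]
    simp only [gram_add_left, gram_add_right, gram_smul_left, gram_smul_right, h.gram_act_left, gram_act_right,
      o12, o21, mul_zero, add_zero, zero_add]
    rw [show rev N (C b + uu K) * ((uu K) ^ (e - i) * (C b + uu K)) =
        (uu K) ^ (e - i) * (rev N (C b + uu K) * (C b + uu K)) by ring,
      apply_congr (gram_kill h h₂.kill v₂) (hn i hi), map_add, apply_C_mul, apply_C_mul]
    ring
  have ru : uu K ∣ rev N (uu K) := by
    have := dvd_rev_uu h.pos (show 1 ≤ e by omega) hf (r := uu K) (by rw [pow_one])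
    rwa [pow_one] at this
  refine ⟨v, add_mem (U.smul_mem _ m₁) (hU.act_mem _ m₂), h₁.he, h₁.ev, hk, ?_, fun _ => ?_, by simp⟩
  · rw [hg 1 le_rfl, h₁.q, h₂.q, gram_kill h h₂.kill v₂ _ ?_]
    · rw [hb]; linear_combination (a * a + a) * h.two
    · calc (uu K) ^ e = (uu K) ^ (e - 1) * uu K := by rw [← pow_succ, Nat.sub_add_cancel (by omega : 1 ≤ e)]
        _ ∣ _ := mul_dvd_mul_left _ (dvd_mul_left _ _)
  · rw [hg 3 (by omega), h₁.f h4, h₂.f h4, apply_congr (gram_kill h h₂.kill v₂) (s := (uu K) ^ (e - 1)) ?_, h₂.q]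
    · simp only [tv, if_true, Bool.false_eq_true, if_false]
      rw [show tau0 K = a from rfl, hb]
      linear_combination (a * a * a + a * a + a + 1) * h.two
    · have h1 : (uu K) ^ 2 ∣ rev N (uu K) - uu K := by
        have := rev_uu_pow h.pos h.two (j := 1) ((pow_dvd_pow _ (show 1 + 1 ≤ e by omega)).trans hf)
        rwa [pow_one] at this
      rw [show e - 1 = e - 3 + 1 + 1 by omega, pow_succ, pow_succ,
        show (uu K) ^ (e - 3) * (rev N (uu K) * uu K) - (uu K) ^ (e - 3) * uu K * uu K =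
          (uu K) ^ (e - 3) * uu K * (rev N (uu K) - uu K) by ring]
      conv_lhs => rw [show e = e - 3 + 1 + 2 by omega, pow_add, pow_succ]
      exact mul_dvd_mul_left _ h1

/-- A twisted cyclic piece is untwisted by an orthogonal vector with suitable second invariant. -/
theorem untwist_add (h : Ctx2 B x N) {v z : V} (hv : IsV B x e true v) (hk : act x ((uu K) ^ (e - 1)) z = 0)
    (hz : gram B x z z ((uu K) ^ (e - 3)) = tau0 K) (o : ∀ r, gram B x v z r = 0) :
    IsV B x e false (v + z) := by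
  have o' : ∀ r, gram B x z v r = 0 := fun r => by rw [h.gram_swap, o]
  have hke : act x ((uu K) ^ e) z = 0 := act_zero_of_dvd hk (pow_dvd_pow _ (Nat.sub_le _ _))
  refine ⟨hv.he, hv.ev, ?_, ?_, fun h4 => ?_, by simp⟩
  · rw [act, map_add, ← act, hv.kill, zero_add, ← act, hke]
  · simp only [gram_add_left, gram_add_right, o, o', add_zero, zero_add, hv.q]
    rw [gram_apply, hk, map_zero, add_zero]
  · simp only [gram_add_left, gram_add_right, o, o', add_zero, zero_add, hv.f h4, hz, tv, if_true,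
      Bool.false_eq_true, if_false]
    linear_combination tau0 K * h.two

/-- A twisted cyclic piece and a neighbouring cyclic piece. -/
theorem untwist_cyc (h : Ctx2 B x N) {v z : V} {s : Bool} (hv : IsV B x e true v) (hz : IsV B x (e - 2) s z)
    (mv : v ∈ U) (mz : z ∈ U) (o : ∀ r, gram B x v z r = 0) : ∃ v ∈ U, IsV B x e false v := by
  obtain ⟨c, hc⟩ := exists_sq h.two (tau0 K)
  refine ⟨v + c • z, add_mem mv (U.smul_mem _ mz), untwist_add h hv ?_ ?_ fun r => by rw [gram_smul_right, o, mul_zero]⟩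
  · rw [act, map_smul, ← act, act_zero_of_dvd hz.kill (pow_dvd_pow _ (by omega)), smul_zero]
  · rw [gram_smul_left, gram_smul_right, ← mul_assoc, hc, show e - 3 = e - 2 - 1 by omega, hz.q, mul_one]

/-- A twisted cyclic piece and a neighbouring pair piece. -/
theorem untwist_pair (h : Ctx2 B x N) {v z w : V} {s : Bool} (hv : IsV B x e true v)
    (hz : IsW B x (e - 1) s z w) (mv : v ∈ U) (mz : z ∈ U) (mw : w ∈ U) (oz : ∀ r, gram B x v z r = 0)
    (ow : ∀ r, gram B x v w r = 0) : ∃ v ∈ U, IsV B x e false v := by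
  have h4 := hv.hs rfl
  have ho : Odd (e - 1) := by obtain ⟨k, rfl⟩ := hv.ev; exact ⟨k - 1, by omega⟩
  obtain ⟨u, mu, hu, ou, hfu⟩ : ∃ u ∈ U, act x ((uu K) ^ (e - 1)) u = 0 ∧ (∀ r, gram B x v u r = 0) ∧
      gram B x u u ((uu K) ^ (e - 3)) = tau0 K := by
    have hfz := hz.fz (by omega)
    have hfw := hz.fw (by omega)
    cases s
    · obtain ⟨h1, h2⟩ := hz.toPair.addC h ho (by omega) (tau0 K)
      refine ⟨z + tau0 K • w, add_mem mz (U.smul_mem _ mw), h1.kill_z, fun r => by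
        rw [gram_add_right, gram_smul_right, oz, ow, mul_zero, add_zero], ?_⟩
      rw [show e - 3 = e - 1 - 2 by omega, h2, hfz, hfw]
      simp [tv]
    · obtain ⟨c, hc⟩ := exists_sq h.two (tau0 K)
      refine ⟨c • z, U.smul_mem _ mz, by rw [act, map_smul, ← act, hz.kill_z, smul_zero],
        fun r => by rw [gram_smul_right, oz, mul_zero], ?_⟩
      rw [gram_smul_left, gram_smul_right, ← mul_assoc, hc, show e - 3 = e - 1 - 2 by omega, hfz]
      simp
  exact ⟨v + u, add_mem mv mu, untwist_add h hv hu hfu ou⟩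

/-- A twisted pair and an orthogonal vector with second invariant one. -/
theorem untwist_W (h : Ctx2 B x N) {z w u : V} (hz : IsW B x e true z w) (mz : z ∈ U) (mw : w ∈ U) (mu : u ∈ U)
    (hk : act x ((uu K) ^ e) u = 0) (hu : gram B x u u ((uu K) ^ (e - 2)) = 1) (oz : ∀ r, gram B x z u r = 0)
    (ow : ∀ r, gram B x w u r = 0) : ∃ z ∈ U, ∃ w ∈ U, IsW B x e false z w := by
  obtain ⟨ho, he⟩ := hz.hs rfl
  have hk' : act x ((uu K) ^ e) (z + u) = 0 := by rw [act, map_add, ← act, hz.kill_z, zero_add, ← act, hk]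
  have oz' : ∀ r, gram B x u z r = 0 := fun r => by rw [h.gram_swap, oz]
  have hp : Pair B x e (z + u) w :=
    ⟨hz.he, hk', hz.kill_w, by rw [gram_add_right, hz.m, ow, add_zero], alt_q_zero h ho hk', hz.qw⟩
  refine ⟨z + u, add_mem mz mu, _, add_mem mw (U.smul_mem _ (add_mem mz mu)), hp.toW_false h ho he ?_⟩
  simp only [gram_add_left, gram_add_right, oz, oz', add_zero, zero_add, hu, hz.fz (by omega), if_true]
  linear_combination h.two

/-- The bound on exponents at one. -/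
def Max (x : Module.End K V) (U : Submodule K V) (e : ℕ) : Prop :=
  ∀ u ∈ U, ∀ j, act x ((uu K) ^ j) u = 0 → act x ((uu K) ^ e) u = 0

/-- What is known about a chosen piece. -/
def Good (B : V →ₗ[K] V →ₗ[K] K) (x : Module.End K V) (U : Submodule K V) : Tag2 K → Prop
  | .plain P e => P = uu K * uu K → Max x U e
  | .cyc e s => Max x U e ∧ (∀ z ∈ U, ∀ w ∈ U, ¬ Pair B x e z w) ∧ (s = true → ∀ v ∈ U, ¬ IsV B x e false v)
  | .tw e => Max x U e ∧ ∀ z ∈ U, ∀ w ∈ U, ¬ IsW B x e false z w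

theorem pair_prod_ne {p : K[X]} (hp : p.Monic ∧ Irreducible p) (hne : p ≠ du p) : p * du p ≠ uu K * uu K := by
  intro hP
  have h1 : p ∣ uu K * uu K := hP ▸ dvd_mul_right p _
  have hp' : p = uu K := eq_of_monic_of_associated hp.1 uu_monic
    (hp.2.associated_of_dvd uu_irr ((hp.2.prime.dvd_mul.mp h1).elim id id))
  exact hne (by rw [hp', uu_du])

theorem exists_piece2 (h : Ctx2 B x N) (hU : Inv x U) (hnd : Nd B U) (hne : U ≠ ⊥) :
    ∃ t W, IsPiece2 B x t W ∧ W ≤ U ∧ W ≠ ⊥ ∧ Good B x U t := by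
  classical
  obtain ⟨p, e, hpm, hpi, hp0, he, ⟨v₀, hv₀, hkv₀, hqv₀⟩, hmax⟩ := exists_exponent h hU hne
  obtain ⟨w₀, hw₀, hkw₀, hvw₀⟩ := exists_partner h hU hnd ⟨hpm, hpi⟩ hp0 hmax hv₀ hkv₀ hqv₀
  have hrange : ∀ z ∈ U, LinearMap.range (orb x z) ≤ U := by
    rintro z hz - ⟨a, rfl⟩
    exact hU.act_mem a hz
  have hbot : ∀ z, z ≠ 0 → LinearMap.range (orb x z) ≠ ⊥ := fun z hz h0 => hz (by
    have : orb x z 1 ∈ LinearMap.range (orb x z) := ⟨1, rfl⟩
    rw [h0, Submodule.mem_bot, orb_apply] at this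
    simpa [act] using this)
  have hzero : ∀ {a b : V} {r : K[X]}, gram B x a b r ≠ 0 → b ≠ 0 := fun hh h0 => hh (by
    rw [gram_apply, h0, act, map_zero, map_zero])
  have h2pair : ∀ {a b : V}, a ∈ U → b ∈ U → a ≠ 0 →
      LinearMap.range (orb x a) ⊔ LinearMap.range (orb x b) ≤ U ∧
      LinearMap.range (orb x a) ⊔ LinearMap.range (orb x b) ≠ ⊥ := fun ha hb hne =>
    ⟨sup_le (hrange _ ha) (hrange _ hb), fun h0 => hbot _ hne (eq_bot_iff.mpr (h0 ▸ le_sup_left))⟩
  by_cases hu : p = uu K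
  · subst hu
    rw [uu_du] at hkw₀
    have hM : Max x U e := hmax
    set c := (gram B x w₀ v₀ ((uu K) ^ (e - 1)))⁻¹ with hc
    have hw₁ : c • w₀ ∈ U := U.smul_mem _ hw₀
    have hkw₁ : act x ((uu K) ^ e) (c • w₀) = 0 := by rw [act, map_smul, ← act, hkw₀, smul_zero]
    have hm₁ : gram B x (c • w₀) v₀ ((uu K) ^ (e - 1)) = 1 := by
      rw [gram_smul_left, hc, inv_mul_cancel₀ hvw₀]
    have mkW : ∀ z ∈ U, ∀ w ∈ U, IsW B x e false z w → ∃ t W, IsPiece2 B x t W ∧ W ≤ U ∧ W ≠ ⊥ ∧ Good B x U t :=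
      fun z hz w hw hzw => ⟨.plain (uu K * uu K) e, _, Or.inr (Or.inr ⟨z, w, hzw, rfl, rfl⟩),
        (h2pair hz hw (hzero (show gram B x w z ((uu K) ^ (e - 1)) ≠ 0 by rw [hzw.m]; exact one_ne_zero))).1,
        (h2pair hz hw (hzero (show gram B x w z ((uu K) ^ (e - 1)) ≠ 0 by rw [hzw.m]; exact one_ne_zero))).2,
        fun _ => hM⟩
    rcases Nat.even_or_odd e with hev | hodd
    · have he2 : 2 ≤ e := by obtain ⟨k, rfl⟩ := hev; omega
      by_cases hP : ∃ z ∈ U, ∃ w ∈ U, Pair B x e z w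
      · obtain ⟨z, hz, w, hw, hp⟩ := hP
        have hf := dvd_of_kill h hp
        exact mkW z hz w hw ⟨hp, fun _ => by simpa using alt_second_zero h hev he2 hp.kill_z hf hp.qz,
          fun _ => by simpa [tv] using alt_second_zero h hev he2 hp.kill_w hf hp.qw, by simp⟩
      · obtain ⟨v, hv, hkv, hqv⟩ : ∃ v ∈ U, act x ((uu K) ^ e) v = 0 ∧
            gram B x v v ((uu K) ^ (e - 1)) ≠ 0 := by
          by_contra hno
          push_neg at hno
          exact hP ⟨v₀, hv₀, c • w₀, hw₁, he, hkv₀, hkw₁, hm₁, hno _ hv₀ hkv₀, hno _ hw₁ hkw₁⟩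
        push_neg at hP
        have mkV : ∀ s, (∃ v ∈ U, IsV B x e s v) → (s = true → ∀ v ∈ U, ¬ IsV B x e false v) →
            ∃ t W, IsPiece2 B x t W ∧ W ≤ U ∧ W ≠ ⊥ ∧ Good B x U t := fun s hs hg => by
          obtain ⟨v, hv, hV⟩ := hs
          exact ⟨.cyc e s, _, ⟨v, hV, rfl⟩, hrange v hv,
            hbot v (hzero (show gram B x v v ((uu K) ^ (e - 1)) ≠ 0 by rw [hV.q]; exact one_ne_zero)), hM, hP, hg⟩
        by_cases hV0 : ∃ v ∈ U, IsV B x e false v
        · exact mkV false hV0 (by simp)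
        · rcases exists_V h hU hev he2 hv hkv hqv with h1 | h1
          · exact absurd h1 hV0
          · exact mkV true h1 fun _ v hv hV => hV0 ⟨v, hv, hV⟩
    · have hp : Pair B x e v₀ (c • w₀) :=
        ⟨he, hkv₀, hkw₁, hm₁, alt_q_zero h hodd hkv₀, alt_q_zero h hodd hkw₁⟩
      by_cases he1 : e = 1
      · exact mkW v₀ hv₀ _ hw₁ ⟨hp, fun h2 => by omega, fun h2 => by omega, by simp⟩
      have he3 : 3 ≤ e := by obtain ⟨k, rfl⟩ := hodd; omega
      by_cases hW0 : ∃ z ∈ U, ∃ w ∈ U, IsW B x e false z w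
      · obtain ⟨z, hz, w, hw, hzw⟩ := hW0
        exact mkW z hz w hw hzw
      · rcases exists_W_odd h hodd he3 hv₀ hw₁ hp with h1 | ⟨z, hz, w, hw, hzw⟩
        · exact absurd h1 hW0
        · have hne : z ≠ 0 := hzero (show gram B x w z ((uu K) ^ (e - 1)) ≠ 0 by rw [hzw.m]; exact one_ne_zero)
          exact ⟨.tw e, _, ⟨z, w, hzw, rfl⟩, (h2pair hz hw hne).1, (h2pair hz hw hne).2, hM,
            fun z hz w hw hh => hW0 ⟨z, hz, w, hw, hh⟩⟩
  · by_cases hsd : du p = p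
    · have hgood : ∀ q, q = p → (q = uu K * uu K → Max x U e) := fun q hq h0 => by
        exfalso
        subst hq
        rcases (h0 ▸ hpi).isUnit_or_isUnit rfl with h1 | h1 <;> exact uu_irr.not_isUnit h1
      rw [hsd] at hkw₀
      obtain ⟨v, hv, hc⟩ : ∃ v ∈ U, IsC2 B x p e v := by
        by_contra hno
        have hno' : ∀ z ∈ U, act x (p ^ e) z = 0 → ∀ r, gram B x z z (r * p ^ (e - 1)) = 0 := fun z hz hkz r => by
          by_contra h1
          exact hno ⟨z, hz, hpm, hpi, he, hp0, hsd, hu, hkz, r, h1⟩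
        exact hu (isPM_two h.two (polar_shape h hU ⟨hpm, hpi⟩ hp0 he hsd hv₀ hw₀ hkv₀ hkw₀ hvw₀ hno'))
      obtain ⟨r, hr⟩ := hc.top
      exact ⟨.plain p e, _, Or.inl ⟨v, hc, rfl⟩, hrange v hv, hbot v (hzero hr), hgood p rfl⟩
    · obtain ⟨hm, hi, h0, -⟩ := du_props ⟨hpm, hpi⟩ hp0
      have hh : IsH2 B x p e v₀ w₀ := ⟨hpm, hpi, he, hp0, Ne.symm hsd, hkv₀, hkw₀,
        iso_of_ne h ⟨hpm, hpi⟩ hp0 (Ne.symm hsd) hkv₀,
        iso_of_ne h ⟨hm, hi⟩ h0 (by rw [du_du hpm hp0]; exact hsd) hkw₀, 1, by rw [one_mul]; exact hvw₀⟩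
      exact ⟨.plain (p * du p) e, _, Or.inr (Or.inl ⟨p, v₀, w₀, hh, rfl, rfl⟩),
        (h2pair hv₀ hw₀ (hzero hvw₀)).1, (h2pair hv₀ hw₀ (hzero hvw₀)).2,
        fun h0 => absurd h0 (pair_prod_ne ⟨hpm, hpi⟩ (Ne.symm hsd))⟩

end CfsgLib.IsometryTwo
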