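import Mathlib

/-!
Numerical bounds for the invariants of symplectic isometries in characteristic two.
-/

set_option autoImplicit false

namespace CfsgLib.IsometryTwo

/-- The invariant of the nonalternating part at one level. -/
abbrev Tok := Fin 3 × Bool × Bool

/-- Presence of a cyclic piece. -/
def pres (a : Tok) : Bool := decide (a.1 ≠ 0)

/-- The admissible successors. -/
def allowed (p : Bool) (a : Tok) : Bool := (!a.2.1 || (pres a && !p)) && (!a.2.2 || (!pres a && !p))

/-- The weight at a level. -/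
def wta (i : ℕ) (a : Tok) : ℕ := (a.1 : ℕ) * (i + 1) + if a.2.2 then 2 * i + 1 else 0

/-- Presence at the last level. -/
def lastP : (K : ℕ) → (Fin K → Tok) → Bool
  | 0, _ => true
  | K + 1, t => pres (t (Fin.last K))

/-- Admissible sequences. -/
def okP : (K : ℕ) → (Fin K → Tok) → Bool
  | 0, _ => true
  | K + 1, t => okP K (Fin.init t) && allowed (lastP K (Fin.init t)) (t (Fin.last K))

/-- Presence at the previous level. -/
def prevP {K : ℕ} (t : ℕ → Tok) (i : Fin K) : Bool := if i.val = 0 then true else pres (t (i.val - 1))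

theorem okP_of_forall : ∀ (K : ℕ) (t : ℕ → Tok), (∀ i : Fin K, allowed (prevP t i) (t i) = true) →
    okP K (fun i : Fin K => t i) = true ∧ lastP K (fun i : Fin K => t i) =
      (if K = 0 then true else pres (t (K - 1))) := by
  intro K
  induction K with
  | zero => intro t _; exact ⟨rfl, rfl⟩
  | succ K ih =>
    intro t ht
    obtain ⟨h1, h2⟩ := ih t fun i => ht i.castSucc
    refine ⟨?_, by simp [lastP]⟩
    have he : Fin.init (fun i : Fin (K + 1) => t i) = fun i : Fin K => t i := rfl
    rw [okP, he, h1, h2, Bool.true_and]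
    exact ht (Fin.last K)

/-- Total weight. -/
def wtP (K : ℕ) (t : Fin K → Tok) : ℕ := ∑ i, wta i.val (t i)

/-- The generating sum with prescribed last presence. -/
def tokSum (K : ℕ) (p : Bool) : ℚ :=
  ∑ t : Fin K → Tok, if okP K t = true ∧ lastP K t = p then (1 / 2 : ℚ) ^ wtP K t else 0

theorem okP_snoc {K : ℕ} (t : Fin K → Tok) (a : Tok) :
    okP (K + 1) (Fin.snoc t a) = (okP K t && allowed (lastP K t) a) := by
  simp [okP]

theorem lastP_snoc {K : ℕ} (t : Fin K → Tok) (a : Tok) : lastP (K + 1) (Fin.snoc t a) = pres a := by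
  simp [lastP]

theorem tokSum_succ (K : ℕ) (p' : Bool) : tokSum (K + 1) p' =
    ∑ a : Tok, if pres a = p' then (1 / 2 : ℚ) ^ wta K a *
      ((if allowed false a = true then tokSum K false else 0) + if allowed true a = true then tokSum K true else 0)
      else 0 := by
  rw [tokSum, ← (Fin.snocEquiv fun _ => Tok).sum_comp, Fintype.sum_prod_type]
  refine Finset.sum_congr rfl fun a _ => ?_
  have hw : ∀ t : Fin K → Tok, wtP (K + 1) (Fin.snoc t a) = wtP K t + wta K a := fun t => by
    simp [wtP, Fin.sum_univ_castSucc]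
  by_cases hp : pres a = p'
  · rw [if_pos hp]
    simp only [tokSum]
    have e1 : ∀ (c : Prop) [Decidable c] (g : (Fin K → Tok) → ℚ), (if c then ∑ t, g t else 0) = ∑ t, if c then g t else 0 :=
      fun c _ g => by split_ifs <;> simp
    rw [e1, e1, ← Finset.sum_add_distrib, Finset.mul_sum]
    refine Finset.sum_congr rfl fun t _ => ?_
    simp only [Fin.snocEquiv, Equiv.coe_fn_mk, okP_snoc, lastP_snoc, hw]
    cases hok : okP K t <;> cases hl : lastP K t <;> cases h1 : allowed false a <;> cases h2 : allowed true a <;>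
      simp [hp, pow_add, mul_comm]
  · rw [if_neg hp]
    refine Finset.sum_eq_zero fun t _ => ?_
    simp [Fin.snocEquiv, lastP_snoc, hp]

theorem tokSum_false (K : ℕ) :
    tokSum (K + 1) false = tokSum K false + tokSum K true + (1 / 2 : ℚ) ^ (2 * K + 1) * tokSum K false := by
  rw [tokSum_succ]
  simp only [Fintype.sum_prod_type, Fintype.sum_bool, Fin.sum_univ_three, pres, allowed, wta]
  simp
  ring

theorem tokSum_true (K : ℕ) : tokSum (K + 1) true =
    ((1 / 2 : ℚ) ^ (K + 1) + (1 / 2 : ℚ) ^ (2 * (K + 1))) * (2 * tokSum K false + tokSum K true) := by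
  rw [tokSum_succ]
  simp only [Fintype.sum_prod_type, Fintype.sum_bool, Fin.sum_univ_three, pres, allowed, wta]
  simp
  ring

theorem tokSum_nonneg (K : ℕ) (p : Bool) : 0 ≤ tokSum K p :=
  Finset.sum_nonneg fun t _ => by split_ifs <;> positivity

theorem tokSum_zero_false : tokSum 0 false = 0 := by simp [tokSum, lastP]

theorem tokSum_zero_true : tokSum 0 true = 1 := by simp [tokSum, lastP, okP, wtP]

theorem tokSum_total_le : ∀ K, tokSum K false + tokSum K true ≤ 43895 / 10000 := by
  have hinv : ∀ i, (tokSum (14 + i) false + tokSum (14 + i) true) * (1 + 9 / 4 * (1 / 2 : ℚ) ^ (14 + i)) ≤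
      43895 / 10000 := by
    intro i
    induction i with
    | zero => norm_num [tokSum_false, tokSum_true, tokSum_zero_false, tokSum_zero_true]
    | succ i ih =>
      rw [← add_assoc]
      set k := 14 + i with hk
      rw [tokSum_false, tokSum_true]
      set A := tokSum k false
      set Bv := tokSum k true
      have hA : 0 ≤ A := tokSum_nonneg _ _
      have hB : 0 ≤ Bv := tokSum_nonneg _ _
      set y := (1 / 2 : ℚ) ^ (k + 1) with hy
      have hy0 : 0 < y := by positivity
      have hy1 : y ≤ 1 / 64 := by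
        have := pow_le_pow_of_le_one (show (0 : ℚ) ≤ 1 / 2 by norm_num) (by norm_num) (show 6 ≤ k + 1 by omega)
        norm_num at this ⊢
        exact this
      have e1 : (1 / 2 : ℚ) ^ (2 * k + 1) = 2 * y ^ 2 := by rw [hy, ← pow_mul]; ring
      have e2 : (1 / 2 : ℚ) ^ (2 * (k + 1)) = y ^ 2 := by rw [hy, ← pow_mul]; ring
      have e3 : (1 / 2 : ℚ) ^ k = 2 * y := by rw [hy, pow_succ]; ring
      rw [e1, e2]
      rw [e3] at ih
      have hstep : A + Bv + 2 * y ^ 2 * A + (y + y ^ 2) * (2 * A + Bv) ≤ (A + Bv) * (1 + 2 * y + 4 * y ^ 2) := by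
        nlinarith [mul_nonneg hB hy0.le, mul_nonneg hB (sq_nonneg y)]
      have hpoly : (1 + 2 * y + 4 * y ^ 2) * (1 + 9 / 4 * y) ≤ 1 + 9 / 4 * (2 * y) := by nlinarith
      calc _ ≤ (A + Bv) * (1 + 2 * y + 4 * y ^ 2) * (1 + 9 / 4 * y) :=
            mul_le_mul_of_nonneg_right hstep (by linarith)
        _ ≤ (A + Bv) * (1 + 9 / 4 * (2 * y)) := by
            rw [mul_assoc]
            exact mul_le_mul_of_nonneg_left hpoly (by linarith)
        _ ≤ _ := ih
  have hmono : Monotone fun K => tokSum K false + tokSum K true := monotone_nat_of_le_succ fun k => by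
    rw [tokSum_false, tokSum_true]
    have := tokSum_nonneg k false
    have := tokSum_nonneg k true
    have : 0 ≤ (1 / 2 : ℚ) ^ (2 * k + 1) * tokSum k false := by positivity
    have : 0 ≤ ((1 / 2 : ℚ) ^ (k + 1) + (1 / 2 : ℚ) ^ (2 * (k + 1))) * (2 * tokSum k false + tokSum k true) := by
      positivity
    linarith
  intro K
  refine (hmono (show K ≤ 14 + K by omega)).trans (le_trans ?_ (hinv K))
  refine le_mul_of_one_le_right (add_nonneg (tokSum_nonneg _ _) (tokSum_nonneg _ _)) ?_
  have : (0 : ℚ) ≤ 9 / 4 * (1 / 2 : ℚ) ^ (14 + K) := by positivity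
  linarith

theorem geom_prod_le : ∀ E, ∏ j ∈ Finset.range E, (1 - (1 / 2 : ℚ) ^ (j + 1))⁻¹ ≤ 34628 / 10000 := by
  set P : ℕ → ℚ := fun E => ∏ j ∈ Finset.range E, (1 - (1 / 2 : ℚ) ^ (j + 1))⁻¹ with hP
  have hlt : ∀ j, (0 : ℚ) < 1 - (1 / 2) ^ (j + 1) := fun j => by
    have := pow_lt_one₀ (show (0 : ℚ) ≤ 1 / 2 by norm_num) (by norm_num) (show j + 1 ≠ 0 by omega)
    linarith
  have hpos : ∀ E, 0 < P E := fun E => Finset.prod_pos fun j _ => inv_pos.mpr (hlt j)
  have hinv : ∀ i, P (18 + i) * (1 + 11 / 10 * (1 / 2 : ℚ) ^ (18 + i)) ≤ 34628 / 10000 := by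
    intro i
    induction i with
    | zero => norm_num [hP, Finset.prod_range_succ]
    | succ i ih =>
      rw [← add_assoc]
      set k := 18 + i with hk
      have hstep : P (k + 1) = P k * (1 - (1 / 2 : ℚ) ^ (k + 1))⁻¹ := Finset.prod_range_succ _ _
      rw [hstep]
      set y := (1 / 2 : ℚ) ^ (k + 1) with hy
      have hy0 : 0 < y := by positivity
      have hy1 : y ≤ 1 / 64 := by
        have := pow_le_pow_of_le_one (show (0 : ℚ) ≤ 1 / 2 by norm_num) (by norm_num) (show 6 ≤ k + 1 by omega)
        norm_num at this ⊢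
        exact this
      have e3 : (1 / 2 : ℚ) ^ k = 2 * y := by rw [hy, pow_succ]; ring
      rw [e3] at ih
      refine le_trans ?_ ih
      rw [mul_assoc]
      refine mul_le_mul_of_nonneg_left ?_ (hpos k).le
      rw [inv_mul_le_iff₀ (by linarith)]
      nlinarith
  intro E
  have hmono : Monotone P := monotone_nat_of_le_succ fun k => by
    rw [show P (k + 1) = P k * (1 - (1 / 2 : ℚ) ^ (k + 1))⁻¹ from Finset.prod_range_succ _ _]
    refine le_mul_of_one_le_right (hpos k).le ((one_le_inv₀ (hlt k)).mpr ?_)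
    have : (0 : ℚ) ≤ (1 / 2) ^ (k + 1) := by positivity
    linarith
  refine (hmono (show E ≤ 18 + E by omega)).trans (le_trans ?_ (hinv E))
  refine le_mul_of_one_le_right (hpos _).le ?_
  have : (0 : ℚ) ≤ 11 / 10 * (1 / 2 : ℚ) ^ (18 + E) := by positivity
  linarith

/-- The weighted number of degree sequences. -/
theorem degSum_le (q : ℕ) (hq : 2 ≤ q) (n m : ℕ) :
    ∑ D : Fin n → Fin (n + 1), (if ∑ i, (i.val + 1) * (D i).val = m then (q : ℚ) ^ ∑ i, (D i).val else 0) ≤
      34628 / 10000 * (q : ℚ) ^ m := by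
  rcases n with _ | n
  · rcases eq_or_ne m 0 with rfl | hm
    · simp; norm_num
    · simp [Ne.symm hm]
  set x : ℚ := 1 / 2
  have hterm : ∀ D : Fin (n + 1) → Fin (n + 1 + 1), ∑ i, (i.val + 1) * (D i).val = m →
      (q : ℚ) ^ ∑ i, (D i).val ≤ (q : ℚ) ^ m * x ^ ∑ i : Fin n, (i.val + 1) * (D i.succ).val := by
    intro D hD
    have hsplit : ∑ i, (D i).val + ∑ i : Fin n, (i.val + 1) * (D i.succ).val = m := by
      rw [← hD, Fin.sum_univ_succ, Fin.sum_univ_succ (f := fun i => (i.val + 1) * (D i).val), add_assoc,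
        ← Finset.sum_add_distrib]
      congr 1
      · simp
      exact Finset.sum_congr rfl fun i _ => by rw [Fin.val_succ]; ring
    set a := ∑ i, (D i).val
    set b := ∑ i : Fin n, (i.val + 1) * (D i.succ).val
    rw [← hsplit, pow_add, mul_assoc, ← mul_pow]
    refine le_mul_of_one_le_right (by positivity) (one_le_pow₀ ?_)
    have : (2 : ℚ) ≤ q := by exact_mod_cast hq
    simp only [x]
    linarith
  calc ∑ D : Fin (n + 1) → Fin (n + 1 + 1),
        (if ∑ i, (i.val + 1) * (D i).val = m then (q : ℚ) ^ ∑ i, (D i).val else 0)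
      ≤ ∑ D : Fin (n + 1) → Fin (n + 1 + 1), (if ∑ i, (i.val + 1) * (D i).val = m then
          (q : ℚ) ^ m * x ^ ∑ i : Fin n, (i.val + 1) * (D i.succ).val else 0) := by
        refine Finset.sum_le_sum fun D _ => ?_
        split_ifs with h
        · exact hterm D h
        · exact le_rfl
    _ = ∑ r : Fin n → Fin (n + 1 + 1), ∑ d : Fin (n + 1 + 1), (if d.val + ∑ i : Fin n, (i.val + 2) * (r i).val = m then
          (q : ℚ) ^ m * x ^ ∑ i : Fin n, (i.val + 1) * (r i).val else 0) := by
        rw [← (Fin.consEquiv fun _ => Fin (n + 1 + 1)).sum_comp, Fintype.sum_prod_type, Finset.sum_comm]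
        refine Finset.sum_congr rfl fun r _ => Finset.sum_congr rfl fun d _ => ?_
        simp [Fin.sum_univ_succ, Fin.consEquiv]
    _ ≤ ∑ r : Fin n → Fin (n + 1 + 1), (q : ℚ) ^ m * x ^ ∑ i : Fin n, (i.val + 1) * (r i).val := by
        refine Finset.sum_le_sum fun r _ => ?_
        rw [← Finset.sum_filter, Finset.sum_const, nsmul_eq_mul]
        refine mul_le_of_le_one_left (by positivity) ?_
        exact_mod_cast Finset.card_le_one.mpr fun a ha b hb => Fin.ext (by
          simp only [Finset.mem_filter, Finset.mem_univ, true_and] at ha hb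
          omega)
    _ = (q : ℚ) ^ m * ∏ i : Fin n, ∑ d : Fin (n + 1 + 1), (x ^ (i.val + 1)) ^ d.val := by
        rw [Fintype.prod_sum, Finset.mul_sum]
        refine Finset.sum_congr rfl fun r _ => ?_
        simp only [← pow_mul, Finset.prod_pow_eq_pow_sum]
    _ ≤ (q : ℚ) ^ m * (34628 / 10000) := by
        refine mul_le_mul_of_nonneg_left (le_trans ?_ (geom_prod_le n)) (by positivity)
        rw [← Fin.prod_univ_eq_prod_range]
        refine Finset.prod_le_prod (fun i _ => Finset.sum_nonneg fun d _ => by positivity) fun i _ => ?_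
        have hlt : x ^ (i.val + 1) < 1 := pow_lt_one₀ (by positivity) (by norm_num [x]) (by omega)
        have h0 : 0 ≤ x ^ (i.val + 1) := by positivity
        rw [Fin.sum_univ_eq_sum_range (fun d => (x ^ (i.val + 1)) ^ d), inv_eq_one_div, le_div_iff₀ (by linarith),
          geom_sum_mul_neg]
        have := pow_nonneg h0 (n + 1 + 1)
        linarith
    _ = _ := mul_comm _ _

/-- The total number of invariants. -/
theorem total_le (q : ℕ) (hq : 2 ≤ q) (n : ℕ) :
    ∑ t : Fin n → Tok, (if okP n t = true ∧ wtP n t ≤ n then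
      ∑ D : Fin n → Fin (n + 1), (if ∑ i, (i.val + 1) * (D i).val = n - wtP n t then (q : ℚ) ^ ∑ i, (D i).val else 0)
      else 0) ≤ 76 / 5 * (q : ℚ) ^ n := by
  set C : ℚ := 34628 / 10000
  have key : ∀ a b : ℕ, b ≤ a → (q : ℚ) ^ (a - b) ≤ (q : ℚ) ^ a * (1 / 2 : ℚ) ^ b := by
    intro a b hb
    obtain ⟨c, rfl⟩ := Nat.exists_eq_add_of_le hb
    rw [Nat.add_sub_cancel_left, pow_add, mul_comm ((q : ℚ) ^ b), mul_assoc, ← mul_pow]
    refine le_mul_of_one_le_right (by positivity) (one_le_pow₀ ?_)
    have : (2 : ℚ) ≤ q := by exact_mod_cast hq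
    linarith
  calc _ ≤ ∑ t : Fin n → Tok, (if okP n t = true then C * (q : ℚ) ^ n * (1 / 2 : ℚ) ^ wtP n t else 0) := by
        refine Finset.sum_le_sum fun t _ => ?_
        by_cases h : okP n t = true ∧ wtP n t ≤ n
        · rw [if_pos h, if_pos h.1]
          refine (degSum_le q hq n _).trans ?_
          rw [mul_assoc]
          refine mul_le_mul_of_nonneg_left ?_ (by norm_num [C])
          exact key n _ h.2
        · rw [if_neg h]
          split_ifs <;> positivity
    _ = C * (q : ℚ) ^ n * (tokSum n false + tokSum n true) := by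
        rw [tokSum, tokSum, ← Finset.sum_add_distrib, Finset.mul_sum]
        refine Finset.sum_congr rfl fun t _ => ?_
        cases okP n t <;> cases lastP n t <;> simp
    _ ≤ C * (q : ℚ) ^ n * (43895 / 10000) := mul_le_mul_of_nonneg_left (tokSum_total_le n) (by positivity)
    _ ≤ _ := by
        have : (0 : ℚ) ≤ (q : ℚ) ^ n := by positivity
        simp only [C]
        nlinarith

end CfsgLib.IsometryTwo
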