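import Cfsg.Agent.Lib.IsometryTwo.Frames
import Cfsg.Agent.Lib.IsometryTwo.Count
import Cfsg.Agent.Lib.IsometryClasses.SelfDual

/-!
The invariants attached to a preferred decomposition.
-/

set_option autoImplicit false
set_option linter.unusedSectionVars false

namespace CfsgLib.IsometryTwo

open Polynomial CfsgLib.IsometryClasses

universe u

variable {K : Type u} [Field K] [Fintype K]

theorem sd_parity_two (h2 : (2 : K) = 0) {p : K[X]} (hp : p.Monic ∧ Irreducible p) (hp0 : p.coeff 0 ≠ 0)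
    (hsd : du p = p) (hne : p ≠ uu K) : p.coeff 0 = 1 ∧ Even p.natDegree := by
  have hc : p.coeff 0 = 1 := by
    have h1 := SUClassNumber.dualP_coeff_of_self hsd (Nat.zero_le _)
    rw [Nat.sub_zero, hp.1.coeff_natDegree, map_one, mul_one, RingHom.id_apply] at h1
    have h3 : p.coeff 0 * p.coeff 0 = 1 := by
      nth_rewrite 1 [h1]
      exact inv_mul_cancel₀ hp0
    have h4 : (p.coeff 0 - 1) * (p.coeff 0 - 1) = 0 := by linear_combination h3 - (p.coeff 0 - 1) * h2
    exact sub_eq_zero.mp ((mul_eq_zero.mp h4).elim id id)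
  refine ⟨hc, ?_⟩
  by_contra hodd
  rw [Nat.not_even_iff_odd] at hodd
  refine hne (eq_of_monic_of_associated hp.1 uu_monic
    ((uu_irr.associated_of_dvd hp.2 ((dvd_uu_iff p).mpr ?_)).symm))
  rw [eval_eq_sum_range]
  simp only [one_pow, mul_one]
  have hsym : ∀ i, i ≤ p.natDegree → p.coeff (p.natDegree - i) = p.coeff i := fun i hi => by
    have := SUClassNumber.dualP_coeff_of_self hsd hi
    rwa [RingHom.id_apply, RingHom.id_apply, hc, inv_one, one_mul, eq_comm] at this
  refine Finset.sum_involution (fun i _ => p.natDegree - i) (fun i hi => ?_) (fun i hi _ => ?_)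
    (fun i hi => ?_) (fun i hi => ?_)
  · rw [Finset.mem_range] at hi
    rw [hsym i (by omega)]
    linear_combination p.coeff i * h2
  · rw [Finset.mem_range] at hi
    intro h
    obtain ⟨k, hk⟩ := hodd
    omega
  · rw [Finset.mem_range] at hi ⊢
    omega
  · rw [Finset.mem_range] at hi
    omega

/-- Polynomials of plain labels. -/
def PlainP (P : K[X]) : Prop :=
  (∃ p : K[X], p.Monic ∧ Irreducible p ∧ p.coeff 0 ≠ 0 ∧
    ((du p = p ∧ p ≠ uu K ∧ P = p) ∨ (du p ≠ p ∧ P = p * du p))) ∨ P = uu K * uu K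

/-- Palindromic polynomials of even degree. -/
def GoodPoly (P : K[X]) : Prop := P.Monic ∧ du P = P ∧ P.coeff 0 = 1 ∧ Even P.natDegree

theorem good_one : GoodPoly (1 : K[X]) := ⟨monic_one, SUClassNumber.dualP_one, by simp, by simp⟩

theorem good_uu (h2 : (2 : K) = 0) : GoodPoly (uu K * uu K) := by
  refine ⟨uu_monic.mul uu_monic, by rw [du, SUClassNumber.dualP_mul, ← du, uu_du], ?_, ?_⟩
  · rw [mul_coeff_zero]
    simp
  · rw [natDegree_mul (X_sub_C_ne_zero 1) (X_sub_C_ne_zero 1), natDegree_X_sub_C]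
    exact ⟨1, rfl⟩

theorem GoodPoly.mul {P R : K[X]} (h : GoodPoly P) (h' : GoodPoly R) : GoodPoly (P * R) :=
  ⟨h.1.mul h'.1, by rw [du, SUClassNumber.dualP_mul, ← du, h.2.1, ← du, h'.2.1],
    by rw [mul_coeff_zero, h.2.2.1, h'.2.2.1, one_mul],
    by rw [natDegree_mul h.1.ne_zero h'.1.ne_zero]; exact h.2.2.2.add h'.2.2.2⟩

theorem PlainP.good (h2 : (2 : K) = 0) {P : K[X]} (h : PlainP P) : GoodPoly P := by
  rcases h with ⟨p, hm, hi, h0, ⟨hsd, hne, rfl⟩ | ⟨hsd, rfl⟩⟩ | rfl
  · obtain ⟨a, b⟩ := sd_parity_two h2 ⟨hm, hi⟩ h0 hsd hne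
    exact ⟨hm, hsd, a, b⟩
  · obtain ⟨hm', -, -, hd⟩ := du_props ⟨hm, hi⟩ h0
    refine ⟨hm.mul hm', ?_, ?_, ?_⟩
    · rw [du, SUClassNumber.dualP_mul, ← du, SUClassNumber.dualP_dualP (fun _ => rfl) hm h0, mul_comm]
    · rw [mul_coeff_zero, du, SUClassNumber.coeff_zero_dualP hm, RingHom.id_apply, mul_inv_cancel₀ h0]
    · rw [natDegree_mul hm.ne_zero hm'.ne_zero, hd]
      exact ⟨_, rfl⟩
  · exact good_uu h2

theorem PlainP.exists_prime {P : K[X]} (h : PlainP P) : ∃ p : K[X], p.Monic ∧ Irreducible p ∧ p ∣ P := by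
  rcases h with ⟨p, hm, hi, -, ⟨-, -, rfl⟩ | ⟨-, rfl⟩⟩ | rfl
  exacts [⟨P, hm, hi, dvd_rfl⟩, ⟨p, hm, hi, dvd_mul_right _ _⟩, ⟨uu K, uu_monic, uu_irr, dvd_mul_right _ _⟩]

theorem PlainP.natDegree_pos {P : K[X]} (h2 : (2 : K) = 0) (h : PlainP P) : 2 ≤ P.natDegree := by
  obtain ⟨p, -, hi, hd⟩ := h.exists_prime
  have h1 := natDegree_le_of_dvd hd (h.good h2).1.ne_zero
  have h3 := hi.natDegree_pos
  obtain ⟨k, hk⟩ := (h.good h2).2.2.2
  omega

/-- A plain label is determined by any of its prime factors. -/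
theorem PlainP.key {P : K[X]} (h : PlainP P) {p : K[X]} (hm : p.Monic) (hi : Irreducible p) (hd : p ∣ P) :
    (p = uu K ∧ P = uu K * uu K) ∨ (p ≠ uu K ∧ du p = p ∧ P = p) ∨ (p ≠ uu K ∧ du p ≠ p ∧ P = p * du p) := by
  rcases h with ⟨p', hm', hi', h0, ⟨hsd, hne, rfl⟩ | ⟨hsd, rfl⟩⟩ | rfl
  · have : p = P := eq_of_monic_of_associated hm hm' (hi.associated_of_dvd hi' hd)
    subst this
    exact Or.inr (Or.inl ⟨hne, hsd, rfl⟩)
  · obtain ⟨hm'', hi'', -, -⟩ := du_props ⟨hm', hi'⟩ h0
    have hne' : p' ≠ uu K := fun hh => hsd (by rw [hh, uu_du])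
    rcases hi.prime.dvd_mul.mp hd with h1 | h1
    · have : p = p' := eq_of_monic_of_associated hm hm' (hi.associated_of_dvd hi' h1)
      subst this
      exact Or.inr (Or.inr ⟨hne', hsd, rfl⟩)
    · have : p = du p' := eq_of_monic_of_associated hm hm'' (hi.associated_of_dvd hi'' h1)
      subst this
      refine Or.inr (Or.inr ⟨fun hh => hne' ?_, ?_, ?_⟩)
      · rw [← du_du hm' h0, hh, uu_du]
      · rw [du_du hm' h0]
        exact Ne.symm hsd
      · rw [du_du hm' h0, mul_comm]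
  · exact Or.inl ⟨eq_of_monic_of_associated hm uu_monic
      (hi.associated_of_dvd uu_irr ((hi.prime.dvd_mul.mp hd).elim id id)), rfl⟩

theorem PlainP.eq_of_dvd {P R : K[X]} (h : PlainP P) (h' : PlainP R) {p : K[X]} (hm : p.Monic)
    (hi : Irreducible p) (hd : p ∣ P) (hd' : p ∣ R) : P = R := by
  rcases h.key hm hi hd with ⟨a1, rfl⟩ | ⟨a1, a2, rfl⟩ | ⟨a1, a2, rfl⟩ <;>
    rcases h'.key hm hi hd' with ⟨b1, rfl⟩ | ⟨b1, b2, rfl⟩ | ⟨b1, b2, rfl⟩ <;>
    first | rfl | exact absurd a1 b1 | exact absurd b1 a1 | exact absurd a2 b2 | exact absurd b2 a2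

theorem plain_unique {m m' : Multiset K[X]} (hm : ∀ P ∈ m, PlainP P) (hm' : ∀ P ∈ m', PlainP P)
    (h : m.prod = m'.prod) (h2 : (2 : K) = 0) : m = m' := by
  induction m using Multiset.induction generalizing m' with
  | empty =>
    rw [Multiset.prod_zero] at h
    refine (Multiset.eq_zero_of_forall_notMem fun P hP => ?_).symm
    have h1 := natDegree_le_of_dvd (h ▸ Multiset.dvd_prod hP) (one_ne_zero : (1 : K[X]) ≠ 0)
    have h3 := (hm' P hP).natDegree_pos h2
    rw [natDegree_one] at h1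
    omega
  | cons P m ih =>
    obtain ⟨p, hpm, hpi, hpd⟩ := (hm P (Multiset.mem_cons_self P m)).exists_prime
    have h1 : p ∣ m'.prod := by
      rw [← h, Multiset.prod_cons]
      exact dvd_mul_of_dvd_left hpd _
    obtain ⟨R, hR, hpR⟩ := hpi.prime.exists_mem_multiset_dvd h1
    have hPR : P = R := (hm P (Multiset.mem_cons_self P m)).eq_of_dvd (hm' R hR) hpm hpi hpd hpR
    subst hPR
    obtain ⟨m'', rfl⟩ := Multiset.exists_cons_of_mem hR
    rw [Multiset.prod_cons, Multiset.prod_cons] at h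
    rw [ih (fun Q hQ => hm Q (Multiset.mem_cons_of_mem hQ)) (fun Q hQ => hm' Q (Multiset.mem_cons_of_mem hQ))
      (mul_left_cancel₀ ((hm P (Multiset.mem_cons_self P m)).good h2).1.ne_zero h)]

/-- The polynomial of a label at an exponent. -/
noncomputable def plainAt (e : ℕ) : Tag2 K → Option K[X]
  | .plain P j => if j = e then some P else none
  | _ => none

/-- The plain polynomials at an exponent. -/
noncomputable def plainsAt (e : ℕ) (m : Multiset (Tag2 K)) : Multiset K[X] := m.filterMap (plainAt e)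

theorem mem_plainsAt {e : ℕ} {m : Multiset (Tag2 K)} {P : K[X]} : P ∈ plainsAt e m ↔ Tag2.plain P e ∈ m := by
  rw [plainsAt, Multiset.mem_filterMap]
  constructor
  · rintro ⟨t, ht, h⟩
    rcases t with ⟨R, j⟩ | ⟨j, s⟩ | j <;> simp only [plainAt] at h
    · split_ifs at h with hj
      cases h
      rwa [hj] at ht
    · exact absurd h (by simp)
    · exact absurd h (by simp)
  · exact fun h => ⟨_, h, by simp [plainAt]⟩

theorem plainsAt_plain {e : ℕ} {m : Multiset (Tag2 K)} (hm : ∀ t ∈ m, VTag2 t) :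
    ∀ P ∈ plainsAt e m, PlainP P := fun P hP => (hm _ (mem_plainsAt.mp hP)).2

open Classical in
theorem count_plainsAt (e : ℕ) (m : Multiset (Tag2 K)) (P : K[X]) :
    (plainsAt e m).count P = m.count (Tag2.plain P e) := by
  induction m using Multiset.induction with
  | empty => simp [plainsAt]
  | cons t m ih =>
    rw [plainsAt] at ih ⊢
    rcases t with ⟨R, j⟩ | ⟨j, s⟩ | j
    · by_cases hj : j = e
      · subst hj
        rw [Multiset.filterMap_cons_some (plainAt j) (Tag2.plain R j) m (show plainAt j (Tag2.plain R j) = some R by simp [plainAt])]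
        by_cases hR : P = R
        · subst hR
          rw [Multiset.count_cons_self, Multiset.count_cons_self, ih]
        · rw [Multiset.count_cons_of_ne hR, Multiset.count_cons_of_ne (by simpa using hR), ih]
      · rw [Multiset.filterMap_cons_none _ _ (show plainAt e (Tag2.plain R j) = none by simp [plainAt, hj]),
          Multiset.count_cons_of_ne (by simp [Ne.symm hj]), ih]
    · rw [Multiset.filterMap_cons_none _ _ (show plainAt e (Tag2.cyc j s : Tag2 K) = none from rfl),
        Multiset.count_cons_of_ne (by simp), ih]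
    · rw [Multiset.filterMap_cons_none _ _ (show plainAt e (Tag2.tw j : Tag2 K) = none from rfl),
        Multiset.count_cons_of_ne (by simp), ih]

open Classical in
/-- The number of cyclic pieces at a level. -/
noncomputable def bAt (m : Multiset (Tag2 K)) (k : ℕ) : ℕ :=
  m.count (.cyc (2 * k) false) + m.count (.cyc (2 * k) true)

open Classical in
/-- The nonalternating invariant at a level. -/
noncomputable def tokAt (m : Multiset (Tag2 K)) (k : ℕ) : Tok :=
  (⟨min (bAt m k) 2, by omega⟩,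
    decide (Tag2.cyc (2 * k) true ∈ m ∨ (Tag2.tw (2 * k - 1) ∈ m ∧ 0 < bAt m k)),
    decide (Tag2.tw (2 * k - 1) ∈ m ∧ bAt m k = 0))

open Classical in
/-- The alternating invariant at an exponent. -/
noncomputable def gAt (m : Multiset (Tag2 K)) (e : ℕ) : K[X] :=
  (if Tag2.tw e ∈ m ∧ 0 < bAt m ((e + 1) / 2) then uu K * uu K else 1) * (plainsAt e m).prod

theorem gAt_good (h2 : (2 : K) = 0) {m : Multiset (Tag2 K)} (hm : ∀ t ∈ m, VTag2 t) (e : ℕ) :
    GoodPoly (gAt m e) := by
  classical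
  refine GoodPoly.mul ?_ (Multiset.prod_induction GoodPoly _ (fun a b => GoodPoly.mul) good_one
    fun P hP => (plainsAt_plain hm P hP).good h2)
  split_ifs
  exacts [good_uu h2, good_one]

theorem tw_odd {m : Multiset (Tag2 K)} (hm : ∀ t ∈ m, VTag2 t) {e : ℕ} (h : Tag2.tw e ∈ m) : Odd e ∧ 3 ≤ e :=
  hm _ h

theorem bAt_le {m : Multiset (Tag2 K)} (hc : Canon2 m) (k : ℕ) : bAt m k ≤ 2 := (hc.cyc_count _).1

theorem pres_tokAt (m : Multiset (Tag2 K)) (k : ℕ) : pres (tokAt m k) = true ↔ 0 < bAt m k := by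
  simp only [pres, tokAt, decide_eq_true_eq, Ne, Fin.ext_iff, Fin.val_zero]
  omega

theorem bAt_zero {m : Multiset (Tag2 K)} (k : ℕ) (hf : ∀ s, Tag2.cyc (2 * k) s ∉ m) : bAt m k = 0 := by
  classical
  rw [bAt, Multiset.count_eq_zero.mpr (hf false), Multiset.count_eq_zero.mpr (hf true)]

theorem tokAt_allowed {m : Multiset (Tag2 K)} (hm : ∀ t ∈ m, VTag2 t) (hc : Canon2 m) {n : ℕ} (i : Fin n) :
    allowed (prevP (fun j => tokAt m (j + 1)) i) (tokAt m (i.val + 1)) = true := by
  classical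
  have hprev : (Tag2.cyc (2 * (i.val + 1)) true ∈ m ∨ Tag2.tw (2 * (i.val + 1) - 1) ∈ m) →
      prevP (fun j => tokAt m (j + 1)) i = false := by
    intro h
    have hi : i.val ≠ 0 := by
      intro h0
      rcases h with h | h
      · obtain ⟨-, -, h4⟩ := hm _ h
        have := h4 rfl
        omega
      · obtain ⟨-, h3⟩ := tw_odd hm h
        omega
    rw [prevP, if_neg hi, Nat.sub_add_cancel (Nat.one_le_iff_ne_zero.mpr hi), Bool.eq_false_iff, Ne, pres_tokAt]
    rw [bAt_zero, lt_self_iff_false]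
    · exact not_false
    intro s
    rcases h with h | h
    · have := (hc.cyc_true _ h).1 s
      rwa [show 2 * (i.val + 1) - 2 = 2 * i.val by omega] at this
    · have := (hc.tw_count _).2 h s
      rwa [show 2 * (i.val + 1) - 1 - 1 = 2 * i.val by omega] at this
  set k := i.val + 1 with hk
  set p := prevP (fun j => tokAt m (j + 1)) i with hp
  have hσ : (tokAt m k).2.1 = true → pres (tokAt m k) = true ∧ p = false := by
    intro h
    rw [tokAt, decide_eq_true_eq] at h
    rcases h with h | ⟨h, hb⟩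
    · exact ⟨(pres_tokAt m k).mpr (Nat.lt_of_lt_of_le (Multiset.count_pos.mpr h) (Nat.le_add_left _ _)),
        hprev (Or.inl h)⟩
    · exact ⟨(pres_tokAt m k).mpr hb, hprev (Or.inr h)⟩
  have hw : (tokAt m k).2.2 = true → pres (tokAt m k) = false ∧ p = false := by
    intro h
    rw [tokAt, decide_eq_true_eq] at h
    exact ⟨Bool.eq_false_iff.mpr (by rw [Ne, pres_tokAt]; omega), hprev (Or.inr h.1)⟩
  rw [allowed]
  cases h1 : (tokAt m k).2.1 <;> cases h3 : (tokAt m k).2.2 <;> simp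
  · exact ⟨(hw h3).1, (hw h3).2⟩
  · exact ⟨(hσ h1).1, (hσ h1).2⟩
  · exact absurd ((hσ h1).1.symm.trans (hw h3).1) (by simp)

open Classical in
/-- The dimension as a linear function of the multiplicities. -/
theorem dim_eq {n : ℕ} {m : Multiset (Tag2 K)} (hm : ∀ t ∈ m, VTag2 t) (h2 : (2 : K) = 0)
    (hb : ∀ t ∈ m, t.dim ≤ 2 * n) :
    (m.map Tag2.dim).sum = ∑ i : Fin n, ((i.val + 1) * (plainsAt (i.val + 1) m).prod.natDegree +
      2 * (i.val + 1) * bAt m (i.val + 1) + 2 * (2 * i.val + 1) * m.count (Tag2.tw (2 * i.val + 1))) := by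
  induction m using Multiset.induction with
  | empty => simp [plainsAt, bAt]
  | cons t m ih =>
    have hm' : ∀ s ∈ m, VTag2 s := fun s hs => hm s (Multiset.mem_cons_of_mem hs)
    rw [Multiset.map_cons, Multiset.sum_cons, ih hm' fun s hs => hb s (Multiset.mem_cons_of_mem hs)]
    have ht := hm t (Multiset.mem_cons_self t m)
    have htn := hb t (Multiset.mem_cons_self t m)
    obtain ⟨i₀, hi₀, key⟩ : ∃ i₀ : Fin n, True ∧ ∀ i : Fin n,
        (i.val + 1) * (plainsAt (i.val + 1) (t ::ₘ m)).prod.natDegree + 2 * (i.val + 1) * bAt (t ::ₘ m) (i.val + 1) +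
          2 * (2 * i.val + 1) * (t ::ₘ m).count (Tag2.tw (2 * i.val + 1)) =
        (if i = i₀ then t.dim else 0) + ((i.val + 1) * (plainsAt (i.val + 1) m).prod.natDegree +
          2 * (i.val + 1) * bAt m (i.val + 1) + 2 * (2 * i.val + 1) * m.count (Tag2.tw (2 * i.val + 1))) := by
      rcases t with ⟨P, e⟩ | ⟨e, s⟩ | e
      · obtain ⟨he, hP⟩ := ht
        have hd := PlainP.natDegree_pos h2 hP
        simp only [Tag2.dim] at htn
        have : e * 2 ≤ e * P.natDegree := Nat.mul_le_mul_left e hd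
        refine ⟨⟨e - 1, by omega⟩, trivial, fun i => ?_⟩
        have n1 : ∀ a b, (Tag2.plain P e ::ₘ m).count (Tag2.cyc a b) = m.count (Tag2.cyc a b) := fun a b =>
          Multiset.count_cons_of_ne (by simp) _
        have n2 : ∀ a, (Tag2.plain P e ::ₘ m).count (Tag2.tw a) = m.count (Tag2.tw a) := fun a =>
          Multiset.count_cons_of_ne (by simp) _
        simp only [bAt, n1, n2, plainsAt]
        by_cases hi : i.val + 1 = e
        · rw [if_pos (Fin.ext (show i.val = e - 1 by omega)), Multiset.filterMap_cons_some (plainAt (i.val + 1)) (Tag2.plain P e) m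
            (show plainAt (i.val + 1) (Tag2.plain P e) = some P by simp [plainAt, hi]), Multiset.prod_cons,
            natDegree_mul (PlainP.good h2 hP).1.ne_zero, Tag2.dim, mul_add, hi]
          · ring
          · exact (Multiset.prod_induction GoodPoly _ (fun a b => GoodPoly.mul) good_one
              fun R hR => (plainsAt_plain hm' R hR).good h2).1.ne_zero
        · rw [if_neg (fun h => hi (by rw [h]; show e - 1 + 1 = e; omega)), zero_add, Multiset.filterMap_cons_none _ _
            (show plainAt (i.val + 1) (Tag2.plain P e) = none by simp [plainAt, Ne.symm hi])]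
      · obtain ⟨⟨k, hk⟩, he2, -⟩ := ht
        simp only [Tag2.dim] at htn
        refine ⟨⟨k - 1, by omega⟩, trivial, fun i => ?_⟩
        rw [plainsAt, Multiset.filterMap_cons_none _ _ (show plainAt (i.val + 1) (Tag2.cyc e s : Tag2 K) = none from rfl),
          ← plainsAt, Multiset.count_cons_of_ne (show (Tag2.tw (2 * i.val + 1) : Tag2 K) ≠ Tag2.cyc e s by simp)]
        by_cases hi : 2 * (i.val + 1) = e
        · rw [if_pos (Fin.ext (show i.val = k - 1 by omega)), bAt, bAt, Tag2.dim]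
          cases s <;> simp [hi] <;> ring
        · rw [if_neg (fun h => hi (by rw [h]; show 2 * (k - 1 + 1) = e; omega)), zero_add, bAt, bAt,
            Multiset.count_cons_of_ne (by simp [hi]), Multiset.count_cons_of_ne (by simp [hi])]
      · obtain ⟨⟨k, hk⟩, he3⟩ := ht
        simp only [Tag2.dim] at htn
        refine ⟨⟨k, by omega⟩, trivial, fun i => ?_⟩
        rw [plainsAt, Multiset.filterMap_cons_none _ _ (show plainAt (i.val + 1) (Tag2.tw e : Tag2 K) = none from rfl),
          ← plainsAt, bAt, Multiset.count_cons_of_ne (by simp), Multiset.count_cons_of_ne (by simp), ← bAt]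
        by_cases hi : 2 * i.val + 1 = e
        · rw [if_pos (Fin.ext (show i.val = k by omega)), hi, Multiset.count_cons_self, Tag2.dim]
          ring
        · rw [if_neg (fun h => hi (by rw [h]; show 2 * k + 1 = e; omega)), zero_add,
            Multiset.count_cons_of_ne (by simp [hi])]
    rw [Finset.sum_congr rfl fun i _ => key i]
    conv_rhs => rw [Finset.sum_add_distrib, Finset.sum_ite_eq' Finset.univ i₀, if_pos (Finset.mem_univ _)]

theorem sum_odd_reindex (n : ℕ) (f : ℕ → ℕ) (hf : ∀ e, f e ≠ 0 → Odd e ∧ e ≤ n) :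
    ∑ i : Fin n, f (i.val + 1) = ∑ i : Fin n, f (2 * i.val + 1) := by
  refine Finset.sum_bij_ne_zero (fun i _ _ => ⟨i.val / 2, by have := i.isLt; omega⟩) (fun _ _ _ => Finset.mem_univ _)
    (fun a _ ha b _ hb h => ?_) (fun b _ hb => ?_) fun a _ ha => ?_
  · obtain ⟨⟨x, hx⟩, -⟩ := hf _ ha
    obtain ⟨⟨y, hy⟩, -⟩ := hf _ hb
    have h' : a.val / 2 = b.val / 2 := congrArg Fin.val h
    exact Fin.ext (by omega)
  · obtain ⟨-, hle⟩ := hf _ hb
    exact ⟨⟨2 * b.val, by omega⟩, Finset.mem_univ _, hb, Fin.ext (show 2 * b.val / 2 = b.val by omega)⟩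
  · obtain ⟨⟨x, hx⟩, -⟩ := hf _ ha
    show f (a.val + 1) = f (2 * (a.val / 2) + 1)
    congr 1
    omega

theorem single_dim_le {m : Multiset (Tag2 K)} {n : ℕ} (hdim : (m.map Tag2.dim).sum = 2 * n) :
    ∀ t ∈ m, t.dim ≤ 2 * n := fun t ht =>
  hdim ▸ Multiset.single_le_sum (fun _ _ => Nat.zero_le _) _ (Multiset.mem_map_of_mem Tag2.dim ht)

theorem weight_eq (h2 : (2 : K) = 0) {n : ℕ} {m : Multiset (Tag2 K)} (hm : ∀ t ∈ m, VTag2 t) (hc : Canon2 m)
    (hdim : (m.map Tag2.dim).sum = 2 * n) :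
    wtP n (fun i : Fin n => tokAt m (i.val + 1)) +
      ∑ i : Fin n, (i.val + 1) * ((gAt m (i.val + 1)).natDegree / 2) = n := by
  classical
  have hb := single_dim_le hdim
  have hdeg := dim_eq hm h2 hb
  set f : ℕ → ℕ := fun e => if Tag2.tw e ∈ m ∧ 0 < bAt m ((e + 1) / 2) then e else 0 with hf
  have hre := sum_odd_reindex n f fun e he => by
    have hmem : Tag2.tw e ∈ m := by
      by_contra hno
      exact he (if_neg fun h => hno h.1)
    refine ⟨(tw_odd hm hmem).1, ?_⟩
    have : (Tag2.tw e : Tag2 K).dim ≤ 2 * n := hb _ hmem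
    simp only [Tag2.dim] at this
    omega
  have hG : ∀ i : Fin n, 2 * ((i.val + 1) * ((gAt m (i.val + 1)).natDegree / 2)) =
      2 * f (i.val + 1) + (i.val + 1) * (plainsAt (i.val + 1) m).prod.natDegree := by
    intro i
    obtain ⟨k, hk⟩ := (gAt_good h2 hm (i.val + 1)).2.2.2
    rw [hk, show (k + k) / 2 = k by omega, show 2 * ((i.val + 1) * k) = (i.val + 1) * (k + k) by ring, ← hk,
      gAt, natDegree_mul ?_ ?_, mul_add]
    · simp only [hf]
      split_ifs
      · rw [natDegree_mul (X_sub_C_ne_zero 1) (X_sub_C_ne_zero 1), natDegree_X_sub_C]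
        ring
      · rw [natDegree_one]
        ring
    · split_ifs
      exacts [mul_ne_zero (X_sub_C_ne_zero 1) (X_sub_C_ne_zero 1), one_ne_zero]
    · exact (Multiset.prod_induction GoodPoly _ (fun a b => GoodPoly.mul) good_one
        fun R hR => (plainsAt_plain hm R hR).good h2).1.ne_zero
  have hT : ∀ i : Fin n, 2 * wta i.val (tokAt m (i.val + 1)) + 2 * f (2 * i.val + 1) =
      2 * (i.val + 1) * bAt m (i.val + 1) + 2 * (2 * i.val + 1) * m.count (Tag2.tw (2 * i.val + 1)) := by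
    intro i
    have hb2 := bAt_le hc (i.val + 1)
    have hcnt : m.count (Tag2.tw (2 * i.val + 1)) = if Tag2.tw (2 * i.val + 1) ∈ m then 1 else 0 := by
      split_ifs with h
      · exact le_antisymm (hc.tw_count _).1 (Multiset.count_pos.mpr h)
      · exact Multiset.count_eq_zero.mpr h
    rw [hcnt]
    simp only [hf, wta, tokAt, show 2 * (i.val + 1) - 1 = 2 * i.val + 1 by omega,
      show (2 * i.val + 1 + 1) / 2 = i.val + 1 by omega, Nat.min_eq_left hb2, decide_eq_true_eq]
    rcases Nat.eq_zero_or_pos (bAt m (i.val + 1)) with h0 | h0 <;>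
      by_cases ht : Tag2.tw (2 * i.val + 1) ∈ m <;> simp [ht, h0, ne_of_gt] <;> ring
  have : 2 * (wtP n (fun i : Fin n => tokAt m (i.val + 1)) +
      ∑ i : Fin n, (i.val + 1) * ((gAt m (i.val + 1)).natDegree / 2)) = 2 * n := by
    rw [← hdim, hdeg, mul_add, wtP, Finset.mul_sum, Finset.mul_sum, Finset.sum_congr rfl fun i _ => hG i,
      Finset.sum_add_distrib, ← Finset.mul_sum Finset.univ (fun i : Fin n => f (i.val + 1)), hre, Finset.mul_sum,
      ← add_assoc, ← Finset.sum_add_distrib, Finset.sum_congr rfl fun i _ => hT i, ← Finset.sum_add_distrib]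
    exact Finset.sum_congr rfl fun i _ => by ring
  omega

/-- The invariants determine the labels. -/
theorem data_inj (h2 : (2 : K) = 0) {n : ℕ} {m m' : Multiset (Tag2 K)} (hm : ∀ t ∈ m, VTag2 t)
    (hm' : ∀ t ∈ m', VTag2 t) (hc : Canon2 m) (hc' : Canon2 m') (hb : ∀ t ∈ m, t.dim ≤ 2 * n)
    (hb' : ∀ t ∈ m', t.dim ≤ 2 * n) (ht : ∀ i : Fin n, tokAt m (i.val + 1) = tokAt m' (i.val + 1))
    (hg : ∀ i : Fin n, gAt m (i.val + 1) = gAt m' (i.val + 1)) : m = m' := by
  classical
  have hroot : ∀ {m : Multiset (Tag2 K)}, (∀ t ∈ m, VTag2 t) → ∀ e, uu K ∣ gAt m e ↔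
      ((Tag2.tw e ∈ m ∧ 0 < bAt m ((e + 1) / 2)) ∨ Tag2.plain (uu K * uu K) e ∈ m) := by
    intro m hm e
    rw [gAt]
    constructor
    · intro h
      by_cases hx : Tag2.tw e ∈ m ∧ 0 < bAt m ((e + 1) / 2)
      · exact Or.inl hx
      rw [if_neg hx, one_mul] at h
      obtain ⟨P, hP, hd⟩ := uu_irr.prime.exists_mem_multiset_dvd h
      rcases (plainsAt_plain hm P hP).key uu_monic uu_irr hd with ⟨-, rfl⟩ | ⟨h1, -, -⟩ | ⟨h1, -, -⟩
      exacts [Or.inr (mem_plainsAt.mp hP), absurd rfl h1, absurd rfl h1]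
    · rintro (h | h)
      · rw [if_pos h]
        exact dvd_mul_of_dvd_left (dvd_mul_right _ _) _
      · exact dvd_mul_of_dvd_right ((dvd_mul_right _ _).trans (Multiset.dvd_prod (mem_plainsAt.mpr h))) _
  have hbeq : ∀ i : Fin n, bAt m (i.val + 1) = bAt m' (i.val + 1) := fun i => by
    have h1 := congrArg (fun a : Tok => a.1.val) (ht i)
    have := bAt_le hc (i.val + 1)
    have := bAt_le hc' (i.val + 1)
    simp only [tokAt] at h1
    omega
  have htw : ∀ e, Tag2.tw e ∈ m ↔ Tag2.tw e ∈ m' := by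
    suffices H : ∀ {m m' : Multiset (Tag2 K)}, (∀ t ∈ m, VTag2 t) → (∀ t ∈ m', VTag2 t) → Canon2 m' →
        (∀ t ∈ m, t.dim ≤ 2 * n) → (∀ i : Fin n, tokAt m (i.val + 1) = tokAt m' (i.val + 1)) →
        (∀ i : Fin n, gAt m (i.val + 1) = gAt m' (i.val + 1)) → ∀ e, Tag2.tw e ∈ m → Tag2.tw e ∈ m' from
      fun e => ⟨H hm hm' hc' hb ht hg e,
        H hm' hm hc hb' (fun i => (ht i).symm) (fun i => (hg i).symm) e⟩
    intro m m' hm hm' hc' hb ht hg e h
    obtain ⟨⟨k, rfl⟩, h3⟩ := tw_odd hm h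
    have hle : (Tag2.tw (2 * k + 1) : Tag2 K).dim ≤ 2 * n := hb _ h
    simp only [Tag2.dim] at hle
    have h1 := congrArg (fun a : Tok => (a.2.1, a.2.2)) (ht ⟨k, by omega⟩)
    simp only [tokAt, show 2 * (k + 1) - 1 = 2 * k + 1 by omega, Prod.mk.injEq, decide_eq_decide] at h1
    rcases Nat.eq_zero_or_pos (bAt m (k + 1)) with h0 | h0
    · exact (h1.2.mp ⟨h, h0⟩).1
    · rcases h1.1.mp (Or.inr ⟨h, h0⟩) with hV | hW
      · have hd : uu K ∣ gAt m' (2 * k + 1) := by
          have := hg ⟨2 * k, by omega⟩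
          simp only at this
          rw [← this, hroot hm]
          exact Or.inl ⟨h, by rwa [show (2 * k + 1 + 1) / 2 = k + 1 by omega]⟩
        obtain ⟨-, c2, c3⟩ := hc'.cyc_true _ hV
        rw [show 2 * (k + 1) - 1 = 2 * k + 1 by omega] at c2 c3
        rcases (hroot hm' _).mp hd with h' | h'
        exacts [h'.1, absurd h' c2]
      · exact hW.1
  have hV : ∀ i : Fin n, Tag2.cyc (2 * (i.val + 1)) true ∈ m ↔ Tag2.cyc (2 * (i.val + 1)) true ∈ m' := by
    intro i
    have h1 := congrArg (fun a : Tok => a.2.1) (ht i)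
    simp only [tokAt, decide_eq_decide] at h1
    have hex : ∀ {m : Multiset (Tag2 K)}, Canon2 m → Tag2.cyc (2 * (i.val + 1)) true ∈ m →
        Tag2.tw (2 * (i.val + 1) - 1) ∉ m := fun hc h => (hc.cyc_true _ h).2.2
    rw [htw] at h1
    constructor
    · intro h
      rcases h1.mp (Or.inl h) with h' | h'
      exacts [h', absurd ((htw _).mpr h'.1) (hex hc h)]
    · intro h
      rcases h1.mpr (Or.inl h) with h' | h'
      exacts [h', absurd h'.1 (hex hc' h)]
  have hplain : ∀ i : Fin n, plainsAt (i.val + 1) m = plainsAt (i.val + 1) m' := by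
    intro i
    refine plain_unique (plainsAt_plain hm) (plainsAt_plain hm') ?_ h2
    have h1 := hg i
    rw [gAt, gAt] at h1
    have hiff : (Tag2.tw (i.val + 1) ∈ m ∧ 0 < bAt m ((i.val + 1 + 1) / 2)) ↔
        (Tag2.tw (i.val + 1) ∈ m' ∧ 0 < bAt m' ((i.val + 1 + 1) / 2)) := by
      have := hbeq ⟨(i.val + 1 + 1) / 2 - 1, by have := i.isLt; omega⟩
      simp only [show (i.val + 1 + 1) / 2 - 1 + 1 = (i.val + 1 + 1) / 2 by omega] at this
      rw [htw, this]
    simp only [hiff] at h1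
    refine mul_left_cancel₀ ?_ h1
    split_ifs
    exacts [mul_ne_zero (X_sub_C_ne_zero 1) (X_sub_C_ne_zero 1), one_ne_zero]
  refine Multiset.ext.mpr fun t => ?_
  by_cases hv : VTag2 t ∧ t.dim ≤ 2 * n
  swap
  · rw [Multiset.count_eq_zero.mpr fun h => hv ⟨hm t h, hb t h⟩, Multiset.count_eq_zero.mpr fun h => hv ⟨hm' t h, hb' t h⟩]
  obtain ⟨hv, hd⟩ := hv
  rcases t with ⟨P, e⟩ | ⟨e, s⟩ | e
  · obtain ⟨he, hP⟩ := hv
    simp only [Tag2.dim] at hd
    have : e * 2 ≤ e * P.natDegree := Nat.mul_le_mul_left e (PlainP.natDegree_pos h2 hP)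
    have := hplain ⟨e - 1, by omega⟩
    simp only [Nat.sub_add_cancel he] at this
    rw [← count_plainsAt, ← count_plainsAt, this]
  · obtain ⟨⟨k, rfl⟩, he2, -⟩ := hv
    simp only [Tag2.dim] at hd
    have e1 := hbeq ⟨k - 1, by omega⟩
    have e2 := hV ⟨k - 1, by omega⟩
    simp only [show k - 1 + 1 = k by omega] at e1 e2
    rw [bAt, bAt] at e1
    rw [← two_mul] at *
    have i1 := (hc.cyc_count (2 * k)).2
    have i2 := (hc'.cyc_count (2 * k)).2
    rw [← Multiset.count_pos, ← Multiset.count_pos] at e2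
    cases s <;> omega
  · have i1 := (hc.tw_count e).1
    have i2 := (hc'.tw_count e).1
    have e2 := htw e
    rw [← Multiset.count_pos, ← Multiset.count_pos] at e2
    omega

end CfsgLib.IsometryTwo
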