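import Cfsg.Agent.Lib.IsometryTwo.Pieces

/-!
The choice of a piece inside a nondegenerate invariant subspace.
-/

set_option autoImplicit false
set_option linter.unusedSectionVars false

namespace CfsgLib.IsometryTwo

open Polynomial CfsgLib.IsometryClasses

universe u v

variable {K : Type u} [Field K] [Fintype K] {V : Type v} [AddCommGroup V] [Module K V]
  {B : V →ₗ[K] V →ₗ[K] K} {x : Module.End K V} {N : ℕ}

theorem Ctx2.swap (h : Ctx2 B x N) (r : K[X]) (u v : V) : B u (act x r v) = 1 * B v (act x (rev N r) u) := by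
  rw [h.symm, h.adj, one_mul]

theorem decomp (h : Ctx2 B x N) {p : K[X]} (hp : Irreducible p) (j : ℕ) {U : Submodule K V} (hU : Inv x U)
    {u : V} (hu : u ∈ U) :
    ∃ u₁ ∈ U, ∃ u₂ ∈ U, u = u₁ + act x (p ^ j) u₂ ∧ ∃ i, act x (p ^ i) u₁ = 0 := by
  obtain ⟨E, g, hg, hXN⟩ := WfDvdMonoid.max_power_factor h.N_ne hp
  obtain ⟨a, b, hab⟩ := IsCoprime.pow_left (m := j) ((Irreducible.coprime_iff_not_dvd hp).mpr hg)
  refine ⟨act x (b * g) u, hU.act_mem _ hu, act x a u, hU.act_mem _ hu, ?_, E, ?_⟩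
  · rw [← act_mul, mul_comm _ a, ← act_add, add_comm, hab]
    simp [act]
  · rw [← act_mul]
    exact act_zero_of_dvd (h.kill u) ⟨b, by rw [hXN]; ring⟩

theorem exists_exponent (h : Ctx2 B x N) {U : Submodule K V} (hU : Inv x U) (hne : U ≠ ⊥) :
    ∃ p e, p.Monic ∧ Irreducible p ∧ p.coeff 0 ≠ 0 ∧ 1 ≤ e ∧
      (∃ u ∈ U, act x (p ^ e) u = 0 ∧ act x (p ^ (e - 1)) u ≠ 0) ∧
      ∀ u ∈ U, ∀ j, act x (p ^ j) u = 0 → act x (p ^ e) u = 0 := by
  classical
  obtain ⟨u₀, hu₀, hu₀ne⟩ := (Submodule.ne_bot_iff _).mp hne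
  have key : ∀ g : K[X], g ≠ 0 → ∀ u ∈ U, u ≠ 0 → act x g u = 0 →
      ∃ p, Irreducible p ∧ ∃ u' ∈ U, u' ≠ 0 ∧ act x p u' = 0 := by
    intro g
    induction g using UniqueFactorizationMonoid.induction_on_prime with
    | h₁ => intro h0; exact absurd rfl h0
    | h₂ g hg =>
      intro _ u _ hune hgu
      obtain ⟨g', hg'⟩ := hg.exists_left_inv
      refine absurd ?_ hune
      calc u = act x (g' * g) u := by rw [hg']; simp [act]
        _ = 0 := act_zero_of_dvd hgu (dvd_mul_left _ _)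
    | h₃ a p ha hp IH =>
      intro _ u hu hune hgu
      by_cases h1 : act x a u = 0
      · exact IH ha u hu hune h1
      · exact ⟨p, hp.irreducible, act x a u, hU.act_mem _ hu, h1, by rw [← act_mul]; exact hgu⟩
  obtain ⟨p₀, hp₀, u₁, hu₁, hu₁ne, hpu₁⟩ := key _ h.N_ne u₀ hu₀ hu₀ne (h.kill u₀)
  set p := p₀ * C (p₀.leadingCoeff)⁻¹ with hpdef
  have hpm : p.Monic := monic_mul_leadingCoeff_inv hp₀.ne_zero
  have hpi : Irreducible p := (irreducible_mul_isUnit
    (isUnit_C.mpr (IsUnit.mk0 _ (inv_ne_zero (leadingCoeff_ne_zero.mpr hp₀.ne_zero))))).mpr hp₀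
  have hpu : act x (p ^ 1) u₁ = 0 := by
    rw [pow_one]
    exact act_zero_of_dvd hpu₁ (dvd_mul_right _ _)
  let P : ℕ → Prop := fun j => ∃ u ∈ U, act x (p ^ j) u = 0 ∧ act x (p ^ (j - 1)) u ≠ 0
  have hP1 : P 1 := ⟨u₁, hu₁, hpu, by simpa [act] using hu₁ne⟩
  have hbound : ∀ j, P j → p ^ j ∣ X ^ N - 1 ∧ j ≤ N := by
    rintro j ⟨u, hu, h1, h2⟩
    have hd := exact_dvd hpi h1 h2 (h.kill u)
    refine ⟨hd, ?_⟩
    have h3 := natDegree_le_of_dvd hd h.N_ne
    rw [natDegree_pow, ← C_1, natDegree_X_pow_sub_C] at h3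
    exact le_trans (Nat.le_mul_of_pos_right j hpi.natDegree_pos) h3
  have h1N : 1 ≤ N := h.pos
  set e := Nat.findGreatest P N with he
  have hPe : P e := Nat.findGreatest_spec h1N hP1
  have he1 : 1 ≤ e := Nat.le_findGreatest h1N hP1
  refine ⟨p, e, hpm, hpi, coeff_zero_ne_of_dvd h.pos ((dvd_pow_self p (by omega)).trans (hbound e hPe).1),
    he1, hPe, fun u hu j => ?_⟩
  induction j with
  | zero => intro h0; exact act_zero_of_dvd h0 (by rw [pow_zero]; exact one_dvd _)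
  | succ j ih =>
    intro h0
    rcases le_or_gt (j + 1) e with hj | hj
    · exact act_zero_of_dvd h0 (pow_dvd_pow p hj)
    · refine ih (by_contra fun h1 => ?_)
      exact Nat.findGreatest_is_greatest hj (hbound (j + 1) ⟨u, hu, h0, h1⟩).2 ⟨u, hu, h0, h1⟩

theorem exists_partner (h : Ctx2 B x N) {U : Submodule K V} (hU : Inv x U) (hnd : Nd B U) {p : K[X]} {e : ℕ}
    (hp : p.Monic ∧ Irreducible p) (hp0 : p.coeff 0 ≠ 0)
    (hmax : ∀ u ∈ U, ∀ j, act x (p ^ j) u = 0 → act x (p ^ e) u = 0) {v : V} (hv : v ∈ U)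
    (hkv : act x (p ^ e) v = 0) (hqv : act x (p ^ (e - 1)) v ≠ 0) :
    ∃ w ∈ U, act x (du p ^ e) w = 0 ∧ gram B x w v (p ^ (e - 1)) ≠ 0 := by
  obtain ⟨hm, hi, h0, -⟩ := du_props hp hp0
  have hmax' : ∀ u ∈ U, ∀ j, act x (du p ^ j) u = 0 → act x (du p ^ e) u = 0 := by
    intro u hu j hj
    refine hnd _ (hU.act_mem _ hu) fun z hz => ?_
    obtain ⟨z₁, hz₁, z₂, hz₂, rfl, i, hi'⟩ := decomp h hp.2 j hU hz
    have h1 : B z₁ (act x (du p ^ e) u) = 0 := by
      obtain ⟨m, -, hm1, -⟩ := rev_du_pow h.pos hp0 e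
      rw [h.adj', h.congr hm1, act_mul, hmax z₁ hz₁ i hi', act, map_zero, map_zero, LinearMap.zero_apply]
    have h2 : B (act x (p ^ j) z₂) (act x (du p ^ e) u) = 0 := by
      obtain ⟨m, -, hm1, -⟩ := rev_du_pow h.pos h0 j
      rw [du_du hp.1 hp0] at hm1
      rw [h.adj, h.congr hm1, ← act_mul, show m * du p ^ j * du p ^ e = m * du p ^ e * du p ^ j by ring, act_mul,
        hj, act, map_zero, map_zero]
    rw [map_add, LinearMap.add_apply, h1, h2, add_zero]
  obtain ⟨z, hz, hzv⟩ : ∃ z ∈ U, B z (act x (p ^ (e - 1)) v) ≠ 0 := by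
    by_contra hne
    push_neg at hne
    exact hqv (hnd _ (hU.act_mem _ hv) hne)
  obtain ⟨z₁, hz₁, z₂, hz₂, rfl, i, hi'⟩ := decomp h hi e hU hz
  refine ⟨z₁, hz₁, hmax' z₁ hz₁ i hi', fun h1 => hzv ?_⟩
  obtain ⟨m, -, hm1, -⟩ := rev_du_pow h.pos hp0 e
  rw [gram_apply] at h1
  rw [map_add, LinearMap.add_apply, h1, zero_add, h.adj, h.congr hm1, ← act_mul,
    show m * p ^ e * p ^ (e - 1) = m * p ^ (e - 1) * p ^ e by ring, act_mul, hkv, act, map_zero, map_zero]

theorem iso_of_ne (h : Ctx2 B x N) {p : K[X]} {e : ℕ} (hp : p.Monic ∧ Irreducible p) (hp0 : p.coeff 0 ≠ 0)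
    (hne : p ≠ du p) {v : V} (hkv : act x (p ^ e) v = 0) (r : K[X]) : gram B x v v r = 0 := by
  obtain ⟨hm, hi, -, -⟩ := du_props hp hp0
  have hcop : IsCoprime (du p ^ e) (p ^ e) := IsCoprime.pow
    ((Irreducible.coprime_iff_not_dvd hi).mpr fun hd => hne
      (eq_of_monic_of_associated hp.1 hm (hi.associated_of_dvd hp.2 hd).symm))
  obtain ⟨a, b, hab⟩ := hcop
  have hv : v = act x (du p ^ e) (act x a v) := by
    rw [← act_mul, mul_comm]
    calc v = act x (a * du p ^ e + b * p ^ e) v := by rw [hab]; simp [act]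
      _ = _ := by rw [act_add, act_zero_of_dvd hkv (dvd_mul_left _ b), add_zero]
  obtain ⟨m, -, hm1, -⟩ := rev_du_pow h.pos hp0 e
  rw [gram_apply]
  nth_rewrite 1 [hv]
  rw [h.adj, h.congr hm1, ← act_mul, show m * p ^ e * r = m * r * p ^ e by ring, act_mul, hkv]
  simp [act]

theorem polar_shape (h : Ctx2 B x N) {U : Submodule K V} (hU : Inv x U) {p : K[X]} {e : ℕ}
    (hp : p.Monic ∧ Irreducible p) (hp0 : p.coeff 0 ≠ 0) (he : 1 ≤ e) (hsd : du p = p) {v w : V}
    (hv : v ∈ U) (hw : w ∈ U) (hkv : act x (p ^ e) v = 0) (hkw : act x (p ^ e) w = 0)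
    (hvw : gram B x w v (p ^ (e - 1)) ≠ 0)
    (hno : ∀ z ∈ U, act x (p ^ e) z = 0 → ∀ r, gram B x z z (r * p ^ (e - 1)) = 0) :
    IsPM p := by
  set q := p ^ (e - 1) with hq
  have hM : Top p e (gram B x w v) :=
    ⟨fun r hr => by rw [gram_apply, act_zero_of_dvd hkv hr, map_zero], 1, by rw [one_mul]; exact hvw⟩
  have hf : p ^ e ∣ X ^ N - 1 := exact_dvd hp.2 hkv (gram_q_ne hM.top) (h.kill v)
  obtain ⟨m, hm⟩ := rev_self_pow h.pos hp0 hsd (e - 1)
  have hpol : ∀ a r, gram B x v (act x a w) (r * q) + gram B x (act x a w) v (r * q) = 0 := by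
    intro a r
    have hka : act x (p ^ e) (act x a w) = 0 := by rw [act_mul_comm, hkw, act, map_zero]
    have h1 := hno (v + act x a w) (add_mem hv (hU.act_mem _ hw)) (by rw [act, map_add, ← act, hkv, zero_add, ← act, hka]) r
    rw [gram_apply] at h1
    simp only [act, map_add, LinearMap.add_apply] at h1
    have h2 := hno v hv hkv r
    have h3 := hno (act x a w) (hU.act_mem _ hw) hka r
    rw [gram_apply] at h2 h3
    simp only [act] at h1 h2 h3
    rw [gram_apply, gram_apply]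
    simp only [act]
    linear_combination h1 - h2 - h3
  have key : ∀ r, p ∣ r + C (1 : K) * (m * rev N r) := by
    intro r
    have h1 : ∀ b, gram B x w v (b * ((r + C (1 : K) * (m * rev N r)) * q)) = 0 := by
      intro b
      have h2 := hpol (rev N b) r
      rw [gram_apply (u := act x (rev N b) w), h.adj, h.congr (rev_rev h.pos b), ← act_mul, ← gram_apply,
        gram_apply (u := v), ← act_mul, h.swap, ← gram_apply] at h2
      rw [hM.eq_of_dvd (r := rev N (r * q * rev N b)) (s := m * rev N r * b * q) ?_] at h2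
      · rw [show b * ((r + C (1 : K) * (m * rev N r)) * q) = C (1 : K) * (m * rev N r * b * q) + b * (r * q) by ring, map_add,
          ← smul_eq_C_mul, map_smul, smul_eq_mul]
        exact h2
      · refine hf.trans ?_
        rw [rev_mul, rev_mul, show rev N r * rev N q * rev N (rev N b) - m * rev N r * b * q =
          rev N r * rev N q * (rev N (rev N b) - b) + rev N r * b * (rev N q - m * q) by ring]
        exact dvd_add (dvd_mul_of_dvd_right (rev_rev h.pos b) _) (dvd_mul_of_dvd_right hm _)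
    have h2 := hM.nondeg hp.2 h1
    rw [show e = 1 + (e - 1) by omega, pow_add, pow_one, ← hq] at h2
    exact (mul_dvd_mul_iff_right (pow_ne_zero _ hp.2.ne_zero)).mp h2
  have hpm : IsPM p := by
    by_contra hpm
    refine not_dvd_rev_X h.pos hp hpm ((dvd_pow_self p (by omega)).trans hf) ?_
    have h1 := key 1
    have h2 := key X
    rw [rev_one, mul_one] at h1
    rw [show rev N X - X = rev N X * (1 + C (1 : K) * m) - (X + C (1 : K) * (m * rev N X)) by ring]
    exact dvd_sub (dvd_mul_of_dvd_right h1 _) h2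
  exact hpm

end CfsgLib.IsometryTwo
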