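import Cfsg.Agent.Lib.IsometryTwo.Alg

/-!
Norms on self-dual cyclic modules away from the eigenvalue one, characteristic two.
-/

set_option autoImplicit false
set_option linter.unusedSectionVars false

namespace CfsgLib.IsometryTwo

open Polynomial CfsgLib.IsometryClasses

universe u

variable {K : Type u} [Field K] [Fintype K] {N : ℕ}

theorem exists_norm_mod_two (hN : 0 < N) (h2 : (2 : K) = 0) {p : K[X]} (hp : p.Monic ∧ Irreducible p)
    (hsd : du p = p) (hpN : p ∣ X ^ N - 1) {u : K[X]} (hsu : p ∣ rev N u - u) :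
    ∃ c, p ∣ rev N c * c - u := by
  classical
  haveI := Fact.mk hp.2
  haveI : Module.Finite K (AdjoinRoot p) := hp.1.finite_adjoinRoot
  haveI : Finite (AdjoinRoot p) := Module.finite_of_finite K
  have h2' : (2 : AdjoinRoot p) = 0 := by
    rw [← map_ofNat (algebraMap K (AdjoinRoot p)) 2, h2, map_zero]
  have hchar : ringChar (AdjoinRoot p) = 2 :=
    CharP.ringChar_of_prime_eq_zero Nat.prime_two (by exact_mod_cast h2')
  obtain ⟨z, hz⟩ := FiniteField.isSquare_of_char_two hchar (AdjoinRoot.mk p u)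
  obtain ⟨c, rfl⟩ := AdjoinRoot.mk_surjective z
  rw [← map_mul, AdjoinRoot.mk_eq_mk] at hz
  have h1 : p ∣ rev N (c * c) - rev N u := by
    rw [← rev_sub]
    have := dvd_rev_self hN (coeff_zero_ne_of_dvd hN hpN) hsd (j := 1) (by rwa [pow_one])
      (r := c * c - u) (by rw [pow_one]; exact dvd_sub_comm.mp hz)
    rwa [pow_one] at this
  have hsq : p ∣ (rev N c - c) * (rev N c - c) := by
    rw [rev_mul] at h1
    rw [show (rev N c - c) * (rev N c - c) = (rev N c * rev N c - rev N u) + (rev N u - u) + (u - c * c) +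
      (c * c - rev N c * c) * 2 by ring, two_poly h2, mul_zero, add_zero]
    exact dvd_add (dvd_add h1 hsu) hz
  have h3 : p ∣ rev N c - c := (hp.2.prime.dvd_mul.mp hsq).elim id id
  refine ⟨c, ?_⟩
  rw [show rev N c * c - u = (rev N c - c) * c - (u - c * c) by ring]
  exact dvd_sub (dvd_mul_of_dvd_left h3 c) hz

theorem exists_theta (hN : 0 < N) (h2 : (2 : K) = 0) {p : K[X]} (hp : p.Monic ∧ Irreducible p)
    (hsd : du p = p) (hpm : p ≠ uu K) {e : ℕ} (he : 1 ≤ e) (hf : p ^ e ∣ X ^ N - 1) :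
    ∃ θ, p ^ e ∣ θ + rev N θ - 1 := by
  have hp0 := coeff_zero_ne_of_dvd hN ((dvd_pow_self p (show e ≠ 0 by omega)).trans hf)
  set w : K[X] := X + rev N X with hw
  have hrw : p ^ e ∣ rev N w - w := by
    refine hf.trans ?_
    rw [hw, rev_add, show rev N X + rev N (rev N X) - (X + rev N X) = rev N (rev N (X : K[X])) - X by ring]
    exact rev_rev hN X
  have hnd : ¬ p ∣ w := by
    intro h
    refine not_dvd_rev_X hN hp (fun hh => hpm (isPM_two h2 hh)) ((dvd_pow_self p (by omega)).trans hf) ?_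
    rw [show rev N X - X = w + (-X : K[X]) * 2 by rw [hw]; ring, two_poly h2, mul_zero, add_zero]
    exact h
  obtain ⟨b, a, hab⟩ : IsCoprime (p ^ e) w :=
    IsCoprime.pow_left ((Irreducible.coprime_iff_not_dvd hp.2).mpr hnd)
  have hcop : IsCoprime (p ^ e) w := IsCoprime.pow_left ((Irreducible.coprime_iff_not_dvd hp.2).mpr hnd)
  have hra : p ^ e ∣ rev N a - a := by
    refine hcop.dvd_of_dvd_mul_right ?_
    have e1 : rev N b * rev N (p ^ e) + rev N a * rev N w = 1 := by rw [← rev_mul, ← rev_mul, ← rev_add, hab, rev_one]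
    rw [show (rev N a - a) * w = -(rev N b * rev N (p ^ e)) + b * p ^ e - rev N a * (rev N w - w) by
      linear_combination e1 - hab]
    exact dvd_sub (dvd_add (dvd_neg.mpr (dvd_mul_of_dvd_right (dvd_rev_self hN hp0 hsd hf dvd_rfl) _))
      (dvd_mul_left _ _)) (dvd_mul_of_dvd_right hrw _)
  refine ⟨a * X, ?_⟩
  rw [rev_mul, show a * X + rev N a * rev N X - 1 = -(b * p ^ e) + (rev N a - a) * rev N X by
    rw [hw] at hab; linear_combination hab]
  exact dvd_add (dvd_neg.mpr (dvd_mul_left _ _)) (dvd_mul_of_dvd_left hra _)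

/-- Every symmetric unit is a norm. -/
theorem exists_norm (hN : 0 < N) (h2 : (2 : K) = 0) {p : K[X]} (hp : p.Monic ∧ Irreducible p)
    (hsd : du p = p) (hpm : p ≠ uu K) {e : ℕ} (he : 1 ≤ e) (hf : p ^ e ∣ X ^ N - 1) {u : K[X]} (hu : ¬ p ∣ u)
    (hsu : p ^ e ∣ rev N u - u) : ∃ c, p ^ e ∣ rev N c * c - u := by
  have hp0 := coeff_zero_ne_of_dvd hN ((dvd_pow_self p (show e ≠ 0 by omega)).trans hf)
  obtain ⟨θ, hθ⟩ := exists_theta hN h2 hp hsd hpm he hf
  have step : ∀ j, 1 ≤ j → j ≤ e → ∃ c, p ^ j ∣ rev N c * c - u := by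
    intro j hj
    induction j, hj using Nat.le_induction with
    | base =>
      intro _
      obtain ⟨c, hc⟩ := exists_norm_mod_two hN h2 hp hsd ((dvd_pow_self p (by omega)).trans hf)
        ((dvd_pow_self p (show e ≠ 0 by omega)).trans hsu)
      exact ⟨c, by rwa [pow_one]⟩
    | succ j hj ih =>
      intro hje
      obtain ⟨c, hc⟩ := ih (by omega)
      have hnc : ¬ p ∣ rev N c := fun h => hu ((dvd_iff_dvd_of_dvd_sub ((dvd_pow_self p (by omega : j ≠ 0)).trans hc)).mp
        (dvd_mul_of_dvd_left h c))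
      obtain ⟨b, k, hk⟩ : IsCoprime (p ^ e) (rev N c) :=
        IsCoprime.pow_left ((Irreducible.coprime_iff_not_dvd hp.2).mpr hnc)
      set d := u - rev N c * c with hd
      set t := θ * k * d with ht
      refine ⟨c + t, ?_⟩
      have hdj : p ^ j ∣ d := dvd_sub_comm.mp hc
      have a1 : p ^ (j + 1) ∣ rev N t * t := by
        refine (pow_dvd_pow p (show j + 1 ≤ j + j by omega)).trans ?_
        rw [pow_add]
        exact mul_dvd_mul (dvd_rev_self hN hp0 hsd ((pow_dvd_pow p (by omega)).trans hf) (dvd_mul_of_dvd_right hdj _))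
          (dvd_mul_of_dvd_right hdj _)
      have a2 : p ^ e ∣ rev N c * t - θ * d := by
        rw [show rev N c * t - θ * d = -(θ * d * b) * p ^ e by rw [ht]; linear_combination (θ * d) * hk]
        exact dvd_mul_left _ _
      have hdsym : p ^ e ∣ rev N d - d := by
        rw [hd, rev_sub, rev_mul, show rev N u - rev N (rev N c) * rev N c - (u - rev N c * c) =
          (rev N u - u) - (rev N (rev N c) - c) * rev N c by ring]
        exact dvd_sub hsu (dvd_mul_of_dvd_left (hf.trans (rev_rev hN c)) _)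
      have a3 : p ^ e ∣ rev N (rev N c * t - θ * d) := dvd_rev_self hN hp0 hsd hf a2
      rw [rev_sub, rev_mul (rev N c) t, rev_mul θ d] at a3
      have key : rev N (c + t) * (c + t) - u = (rev N c * t - θ * d) + (rev N (rev N c) * rev N t - rev N θ * rev N d) +
          rev N t * t + rev N θ * (rev N d - d) + (θ + rev N θ - 1) * d - (rev N (rev N c) - c) * rev N t := by
        rw [rev_add, hd]; ring
      rw [key]
      have hje' : p ^ (j + 1) ∣ p ^ e := pow_dvd_pow p hje
      exact dvd_sub (dvd_add (dvd_add (dvd_add (dvd_add (hje'.trans a2) (hje'.trans a3)) a1)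
        (dvd_mul_of_dvd_right (hje'.trans hdsym) _)) (dvd_mul_of_dvd_left (hje'.trans hθ) _))
        (dvd_mul_of_dvd_left (hje'.trans (hf.trans (rev_rev hN c))) _)
  exact step e he le_rfl

/-- Two symmetric functionals on a self-dual cyclic module away from one are congruent. -/
theorem exists_congr_sd (hN : 0 < N) (h2 : (2 : K) = 0) {p : K[X]} (hp : p.Monic ∧ Irreducible p)
    (hsd : du p = p) (hpm : p ≠ uu K) {e : ℕ} (he : 1 ≤ e) (hf : p ^ e ∣ X ^ N - 1) {L₀ L₁ : K[X] →ₗ[K] K}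
    (h₀ : Top p e L₀) (h₁ : Top p e L₁) (hs₀ : ∀ r, L₀ r = L₀ (rev N r))
    (hs₁ : ∀ r, L₁ r = L₁ (rev N r)) :
    ∃ c, ∀ r, L₁ r = L₀ (r * (rev N c * c)) := by
  obtain ⟨u, hu⟩ := exists_rep hp h₀ h₁.kill
  have hsu : p ^ e ∣ rev N u - u := by
    refine h₀.nondeg hp.2 fun r => ?_
    rw [mul_sub, map_sub, sub_eq_zero, ← hu, hs₀, rev_mul,
      h₀.eq_of_dvd (r := rev N r * rev N (rev N u)) (s := rev N r * u)
        (by rw [← mul_sub]; exact dvd_mul_of_dvd_right (hf.trans (rev_rev hN u)) _), ← hu, ← hs₁]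
  have hpu : ¬ p ∣ u := by
    rintro ⟨t, rfl⟩
    obtain ⟨r, hr⟩ := h₁.top
    refine hr ?_
    rw [hu]
    refine h₀.kill _ ⟨r * t, ?_⟩
    obtain ⟨k, rfl⟩ : ∃ k, e = k + 1 := ⟨e - 1, by omega⟩
    rw [Nat.add_sub_cancel, pow_succ]
    ring
  obtain ⟨c, hc⟩ := exists_norm hN h2 hp hsd hpm he hf hpu hsu
  refine ⟨c, fun r => ?_⟩
  rw [hu]
  refine h₀.eq_of_dvd ?_
  rw [← mul_sub]
  exact dvd_mul_of_dvd_right (dvd_sub_comm.mp hc) _

end CfsgLib.IsometryTwo
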