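import Cfsg.Agent.Lib.IsometryTwo.Norm

/-!
Pairs of cyclic modules at the eigenvalue one with alternating top: their normalisation.
-/

set_option autoImplicit false
set_option linter.unusedSectionVars false

namespace CfsgLib.IsometryTwo

open Polynomial CfsgLib.IsometryClasses

universe u v

variable {K : Type u} [Field K] [Fintype K] {V : Type v} [AddCommGroup V] [Module K V]
  {B : V →ₗ[K] V →ₗ[K] K} {x : Module.End K V} {N : ℕ} {e : ℕ}

theorem gram_kill (h : Ctx2 B x N) {v : V} (hv : act x ((uu K) ^ e) v = 0) (w : V) :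
    (∀ r, (uu K) ^ e ∣ r → gram B x w v r = 0) := fun r hr => by
  rw [gram_apply, act_zero_of_dvd hv hr, map_zero]

theorem Ctx2.gram_alt (h : Ctx2 B x N) {v : V} (hv : act x ((uu K) ^ e) v = 0) : Alt N e (gram B x v v) :=
  ⟨gram_kill h hv v, fun r => by rw [← h.gram_act, h.alt]⟩

/-- A pair with alternating top. -/
structure Pair (B : V →ₗ[K] V →ₗ[K] K) (x : Module.End K V) (e : ℕ) (z w : V) : Prop where
  he : 1 ≤ e
  kill_z : act x ((uu K) ^ e) z = 0
  kill_w : act x ((uu K) ^ e) w = 0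
  m : gram B x w z ((uu K) ^ (e - 1)) = 1
  qz : gram B x z z ((uu K) ^ (e - 1)) = 0
  qw : gram B x w w ((uu K) ^ (e - 1)) = 0

theorem dvd_of_kill (h : Ctx2 B x N) {z w : V} (hz : Pair B x e z w) : (uu K) ^ e ∣ X ^ N - 1 :=
  exact_dvd uu_irr hz.kill_z (gram_q_ne (w := w) ⟨1, by rw [one_mul, hz.m]; exact one_ne_zero⟩) (h.kill z)

theorem zero_of_step {L : K[X] →ₗ[K] K} {e : ℕ} (he : 1 ≤ e) (hk : ∀ r, (uu K) ^ e ∣ r → L r = 0)
    (hq : L ((uu K) ^ (e - 1)) = 0) {r : K[X]} (hr : (uu K) ^ (e - 1) ∣ r) : L r = 0 :=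
  agree_step (L' := (0 : K[X] →ₗ[K] K)) (fun r hr => by rw [LinearMap.zero_apply, hk r (by rwa [Nat.sub_add_cancel he] at hr)])
    (by rw [LinearMap.zero_apply, hq]) r hr

namespace Pair

variable {z w : V}

theorem m' (hp : Pair B x e z w) (h : Ctx2 B x N) : gram B x z w ((uu K) ^ (e - 1)) = 1 := by
  rw [h.gram_swap, apply_congr (gram_kill h hp.kill_z w) (s := (uu K) ^ (e - 1)) ?_, hp.m]
  have := rev_uu_pow h.pos h.two (j := e - 1) (by rw [Nat.sub_add_cancel hp.he]; exact dvd_of_kill h hp)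
  rwa [Nat.sub_add_cancel hp.he] at this

theorem swap (hp : Pair B x e z w) (h : Ctx2 B x N) : Pair B x e w z :=
  ⟨hp.he, hp.kill_w, hp.kill_z, hp.m' h, hp.qw, hp.qz⟩

theorem gz_add (h : Ctx2 B x N) (t r : K[X]) :
    gram B x (z + act x t w) (z + act x t w) r = gram B x z z r + gram B x w z ((rev N r + r) * rev N t) +
      gram B x w w (rev N t * r * t) := by
  rw [gram_add_left, gram_add_right, gram_add_right, gram_act_right, h.gram_act_left, h.gram_act_left,
    gram_act_right, h.gram_swap z w, rev_mul, add_mul, map_add, mul_comm (rev N t) r]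
  ring

/-- Adding a multiple of the partner. -/
theorem shift (hp : Pair B x e z w) (h : Ctx2 B x N) {j : ℕ} (hj : Odd j) (hje : j + 3 ≤ e) (l : K) :
    Pair B x e (z + act x (C l * (uu K) ^ (e - 2 - j)) w) w ∧
    (∀ r, (uu K) ^ (j + 1) ∣ r →
      gram B x (z + act x (C l * (uu K) ^ (e - 2 - j)) w) (z + act x (C l * (uu K) ^ (e - 2 - j)) w) r =
        gram B x z z r ∧
      gram B x w (z + act x (C l * (uu K) ^ (e - 2 - j)) w) r = gram B x w z r) ∧
    gram B x (z + act x (C l * (uu K) ^ (e - 2 - j)) w) (z + act x (C l * (uu K) ^ (e - 2 - j)) w) ((uu K) ^ j) =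
      gram B x z z ((uu K) ^ j) + l := by
  set u := uu K with hu
  set s := e - 2 - j with hs
  set t := C l * u ^ s with ht
  have hf := dvd_of_kill h hp
  have hts : u ^ s ∣ t := dvd_mul_left _ _
  have hrts : u ^ s ∣ rev N t := dvd_rev_uu h.pos (by omega) hf hts
  have hw0 : ∀ {r}, u ^ (e - 1) ∣ r → gram B x w w r = 0 := zero_of_step hp.he (gram_kill h hp.kill_w w) hp.qw
  have hsame : ∀ r, u ^ (j + 1) ∣ r → gram B x (z + act x t w) (z + act x t w) r = gram B x z z r ∧
      gram B x w (z + act x t w) r = gram B x w z r := by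
    intro r hr
    constructor
    · rw [gz_add h, gram_kill h hp.kill_z w _ ?_, hw0 ?_, add_zero, add_zero]
      · rw [show e - 1 = (s + (j + 1)) + 0 by omega, pow_add _ _ 0, pow_add]
        exact mul_dvd_mul (mul_dvd_mul hrts hr) (by rw [pow_zero]; exact one_dvd _)
      · rw [show e = (j + 1 + 1) + s by omega, pow_add]
        exact mul_dvd_mul (tr_dvd h.pos h.two (by omega) hf hr) hrts
    · rw [gram_add_right, gram_act_right, hw0 ?_, add_zero]
      rw [show e - 1 = (j + 1) + s by omega, pow_add]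
      exact mul_dvd_mul hr hts
  refine ⟨⟨hp.he, ?_, hp.kill_w, ?_, ?_, hp.qw⟩, hsame, ?_⟩
  · rw [act, map_add, ← act, hp.kill_z, zero_add, ← act, act_mul_comm, hp.kill_w, act, map_zero]
  · rw [(hsame _ (pow_dvd_pow u (by omega))).2, hp.m]
  · rw [(hsame _ (pow_dvd_pow u (by omega))).1, hp.qz]
  · rw [gz_add h, hw0 ?_, add_zero]
    · congr 1
      rw [ht, rev_mul, rev_C, mul_left_comm, apply_C_mul,
        apply_congr (gram_kill h hp.kill_z w) (s := u ^ (e - 1)) ?_, hp.m, mul_one]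
      have a1 := tr_pow_odd h.pos h.two hj (show j + 2 ≤ e by omega) hf
      rw [← hu] at a1
      have a2 := rev_uu_pow h.pos h.two (j := s) ((pow_dvd_pow u (show s + 1 ≤ e by omega)).trans hf)
      rw [← hu] at a2
      rw [show e - 1 = (j + 1) + s by omega, pow_add, show (rev N (u ^ j) + u ^ j) * rev N (u ^ s) - u ^ (j + 1) * u ^ s =
        (rev N (u ^ j) + u ^ j - u ^ (j + 1)) * rev N (u ^ s) + u ^ (j + 1) * (rev N (u ^ s) - u ^ s) by ring]
      refine dvd_add ?_ ?_
      · rw [show e = (j + 2) + s by omega, pow_add]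
        exact mul_dvd_mul a1 (dvd_rev_uu h.pos (by omega) hf dvd_rfl)
      · rw [show e = (j + 1) + (s + 1) by omega, pow_add]
        exact mul_dvd_mul_left _ a2
    · refine (pow_dvd_pow u (show e - 1 ≤ s + j + s by omega)).trans ?_
      rw [pow_add, pow_add]
      exact mul_dvd_mul (mul_dvd_mul hrts dvd_rfl) hts

/-- Rescaling one member. -/
theorem scale (hp : Pair B x e z w) (h : Ctx2 B x N) {j : ℕ} (hje : j + 2 ≤ e) (l : K) :
    Pair B x e (act x (1 + C l * (uu K) ^ (e - 1 - j)) z) w ∧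
    (∀ r, (uu K) ^ j ∣ r →
      gram B x (act x (1 + C l * (uu K) ^ (e - 1 - j)) z) (act x (1 + C l * (uu K) ^ (e - 1 - j)) z) r =
        gram B x z z r) ∧
    (∀ r, (uu K) ^ (j + 1) ∣ r →
      gram B x w (act x (1 + C l * (uu K) ^ (e - 1 - j)) z) r = gram B x w z r) ∧
    gram B x w (act x (1 + C l * (uu K) ^ (e - 1 - j)) z) ((uu K) ^ j) = gram B x w z ((uu K) ^ j) + l := by
  set u := uu K with hu
  set s := e - 1 - j with hs
  set t := C l * u ^ s with ht
  have hf := dvd_of_kill h hp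
  have hts : u ^ s ∣ t := dvd_mul_left _ _
  have hz0 : ∀ {r}, u ^ (e - 1) ∣ r → gram B x z z r = 0 := zero_of_step hp.he (gram_kill h hp.kill_z z) hp.qz
  have hsame : ∀ r, u ^ j ∣ r → gram B x (act x (1 + t) z) (act x (1 + t) z) r = gram B x z z r := by
    intro r hr
    rw [h.gram_act_left, gram_act_right, show rev N (1 + t) * r * (1 + t) =
      r + r * (rev N t + t) + rev N t * r * t by rw [rev_add, rev_one]; ring, map_add, map_add,
      gram_kill h hp.kill_z z (r * _) ?_, hz0 (r := rev N t * r * t) ?_, add_zero, add_zero]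
    · refine (pow_dvd_pow u (show e - 1 ≤ s + j + s by omega)).trans ?_
      rw [pow_add, pow_add]
      exact mul_dvd_mul (mul_dvd_mul (dvd_rev_uu h.pos (by omega) hf hts) hr) hts
    · rw [show e = j + (s + 1) by omega, pow_add]
      exact mul_dvd_mul hr (tr_dvd h.pos h.two (by omega) hf hts)
  have hM : ∀ r, gram B x w (act x (1 + t) z) r = gram B x w z r + gram B x w z (r * t) := fun r => by
    rw [gram_act_right, mul_add, mul_one, map_add]
  have hM1 : ∀ r, u ^ (j + 1) ∣ r → gram B x w (act x (1 + t) z) r = gram B x w z r := fun r hr => by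
    rw [hM, gram_kill h hp.kill_z w (r * t) ?_, add_zero]
    rw [show e = (j + 1) + s by omega, pow_add]
    exact mul_dvd_mul hr hts
  refine ⟨⟨hp.he, ?_, hp.kill_w, ?_, ?_, hp.qw⟩, hsame, hM1, ?_⟩
  · rw [act_mul_comm, hp.kill_z, act, map_zero]
  · rw [hM1 _ (pow_dvd_pow u (by omega)), hp.m]
  · rw [hsame _ (pow_dvd_pow u (by omega)), hp.qz]
  · rw [hM, ht, mul_left_comm, apply_C_mul, ← pow_add, show j + s = e - 1 by omega, hp.m, mul_one]

/-- A pair can be adjusted to have prescribed invariants. -/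
theorem exists_match (hp : Pair B x e z w) (h : Ctx2 B x N) {U : Submodule K V} (hU : Inv x U) (hz : z ∈ U)
    (hw : w ∈ U) {Lz Lw M : K[X] →ₗ[K] K} (hLz : Alt N e Lz) (hLw : Alt N e Lw)
    (hM : ∀ r, (uu K) ^ e ∣ r → M r = 0) (hz1 : Lz ((uu K) ^ (e - 1)) = 0) (hw1 : Lw ((uu K) ^ (e - 1)) = 0)
    (hm1 : M ((uu K) ^ (e - 1)) = 1)
    (hfz : 2 ≤ e → gram B x z z ((uu K) ^ (e - 2)) = Lz ((uu K) ^ (e - 2)))
    (hfw : 2 ≤ e → gram B x w w ((uu K) ^ (e - 2)) = Lw ((uu K) ^ (e - 2))) :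
    ∃ z₁ ∈ U, ∃ w₁ ∈ U, Pair B x e z₁ w₁ ∧
      (∀ r, gram B x z₁ z₁ r = Lz r) ∧ (∀ r, gram B x w₁ w₁ r = Lw r) ∧ ∀ r, gram B x w₁ z₁ r = M r := by
  set u := uu K with hu
  have hf := dvd_of_kill h hp
  have h2 := h.two
  suffices key : ∀ d, d ≤ e - 1 → ∃ z₁ ∈ U, ∃ w₁ ∈ U, Pair B x e z₁ w₁ ∧
      Agree (e - 1 - d) (gram B x z₁ z₁) Lz ∧ Agree (e - 1 - d) (gram B x w₁ w₁) Lw ∧
      Agree (e - 1 - d) (gram B x w₁ z₁) M ∧
      (2 ≤ e → d = 0 → z₁ = z ∧ w₁ = w) by
    obtain ⟨z₁, hz₁, w₁, hw₁, hp₁, a, b, c, -⟩ := key (e - 1) le_rfl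
    have hall : ∀ r : K[X], u ^ (e - 1 - (e - 1)) ∣ r := fun r => by rw [Nat.sub_self, pow_zero]; exact one_dvd _
    exact ⟨z₁, hz₁, w₁, hw₁, hp₁, fun r => a r (hall r), fun r => b r (hall r), fun r => c r (hall r)⟩
  intro d
  induction d with
  | zero =>
    intro _
    refine ⟨z, hz, w, hw, hp, ?_, ?_, ?_, fun _ _ => ⟨rfl, rfl⟩⟩
    · exact agree_step (by rw [Nat.sub_zero, Nat.sub_add_cancel hp.he]; exact agree_top (gram_kill h hp.kill_z z) hLz.kill)
        (hp.qz.trans hz1.symm)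
    · exact agree_step (by rw [Nat.sub_zero, Nat.sub_add_cancel hp.he]; exact agree_top (gram_kill h hp.kill_w w) hLw.kill)
        (hp.qw.trans hw1.symm)
    · exact agree_step (by rw [Nat.sub_zero, Nat.sub_add_cancel hp.he]; exact agree_top (gram_kill h hp.kill_z w) hM)
        (hp.m.trans hm1.symm)
  | succ d ih =>
    intro hd
    obtain ⟨za, hza, wa, hwa, hpa, az, aw, am, hid⟩ := ih (by omega)
    set j := e - 1 - (d + 1) with hj
    rw [show e - 1 - d = j + 1 by omega] at az aw am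
    obtain ⟨zb, hzb, hpb, bz, bw, bm⟩ : ∃ zb ∈ U, Pair B x e zb wa ∧ Agree j (gram B x zb zb) Lz ∧
        Agree (j + 1) (gram B x wa wa) Lw ∧ Agree (j + 1) (gram B x wa zb) M := by
      rcases Nat.even_or_odd j with hev | hodd
      · exact ⟨za, hza, hpa, agree_even h.pos h2 hf (h.gram_alt hpa.kill_z) hLz hev (by omega) az, aw, am⟩
      by_cases hd0 : d = 0
      · obtain ⟨rfl, rfl⟩ := hid (by omega) hd0
        refine ⟨za, hza, hpa, agree_step az ?_, aw, am⟩
        rw [show j = e - 2 by omega]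
        exact hfz (by omega)
      obtain ⟨s1, s2, s3⟩ := hpa.shift h hodd (by omega) (Lz (u ^ j) - gram B x za za (u ^ j))
      refine ⟨_, add_mem hza (hU.act_mem _ hwa), s1, agree_step (fun r hr => ?_) ?_, aw, fun r hr => ?_⟩
      · rw [(s2 r hr).1]; exact az r hr
      · rw [s3]; ring
      · rw [(s2 r hr).2]; exact am r hr
    obtain ⟨wb, hwb, hpc, cw, cm⟩ : ∃ wb ∈ U, Pair B x e zb wb ∧ Agree j (gram B x wb wb) Lw ∧
        Agree (j + 1) (gram B x wb zb) M := by
      rcases Nat.even_or_odd j with hev | hodd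
      · exact ⟨wa, hwa, hpb, agree_even h.pos h2 hf (h.gram_alt hpb.kill_w) hLw hev (by omega) bw, bm⟩
      by_cases hd0 : d = 0
      · obtain ⟨-, rfl⟩ := hid (by omega) hd0
        refine ⟨wa, hwa, hpb, agree_step bw ?_, bm⟩
        rw [show j = e - 2 by omega]
        exact hfw (by omega)
      obtain ⟨s1, s2, s3⟩ := (hpb.swap h).shift h hodd (by omega) (Lw (u ^ j) - gram B x wa wa (u ^ j))
      refine ⟨_, add_mem hwa (hU.act_mem _ hzb), s1.swap h, agree_step (fun r hr => ?_) ?_, fun r hr => ?_⟩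
      · rw [(s2 r hr).1]; exact bw r hr
      · rw [s3]; ring
      · rw [h.gram_swap, (s2 _ (dvd_rev_uu h.pos (by omega) hf hr)).2, ← h.gram_swap]
        exact bm r hr
    obtain ⟨s1, s2, s3, s4⟩ := hpc.scale h (j := j) (by omega) (M (u ^ j) - gram B x wb zb (u ^ j))
    refine ⟨_, hU.act_mem _ hzb, wb, hwb, s1, fun r hr => ?_, cw, agree_step (fun r hr => ?_) ?_, by omega⟩
    · rw [s2 r hr]; exact bz r hr
    · rw [s3 r hr]; exact cm r hr
    · rw [s4]; ring

theorem indep (hp : Pair B x e z w) (h : Ctx2 B x N) {a b : K[X]}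
    (hz : ∀ r, B (act x r z) (act x a z + act x b w) = 0) (hw : ∀ r, B (act x r w) (act x a z + act x b w) = 0) :
    ∀ i ≤ e, (uu K) ^ i ∣ a ∧ (uu K) ^ i ∣ b := by
  set u := uu K with hu
  have hf := dvd_of_kill h hp
  intro i
  induction i with
  | zero => intro _; rw [pow_zero]; exact ⟨one_dvd _, one_dvd _⟩
  | succ i ih =>
    intro hi
    obtain ⟨⟨a', rfl⟩, ⟨b', rfl⟩⟩ := ih (by omega)
    have hrev : ∀ (v : V), act x (u ^ e) v = 0 → ∀ (y : V) (c : K[X]),
        gram B x y v (rev N (rev N (u ^ (e - 1 - i))) * (u ^ i * c)) = c.eval 1 * gram B x y v (u ^ (e - 1)) := by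
      intro v hv y c
      have h1 : u ^ e ∣ rev N (rev N (u ^ (e - 1 - i))) * (u ^ i * c) - u ^ (e - 1) * c := by
        rw [show u ^ (e - 1) * c = u ^ (e - 1 - i) * (u ^ i * c) by
          rw [← mul_assoc, ← pow_add, show e - 1 - i + i = e - 1 by omega], ← sub_mul]
        exact dvd_mul_of_dvd_left (hf.trans (rev_rev h.pos _)) _
      have h2 : u ^ e ∣ u ^ (e - 1) * c - C (c.eval 1) * u ^ (e - 1) := by
        have := uu_step c (e - 1)
        rwa [← hu, Nat.sub_add_cancel hp.he, mul_comm c] at this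
      rw [apply_congr (gram_kill h hv y) (dvd_add h1 h2 |>.trans (dvd_of_eq (sub_add_sub_cancel _ _ _))),
        apply_C_mul]
    have ea := hw (rev N (u ^ (e - 1 - i)))
    have eb := hz (rev N (u ^ (e - 1 - i)))
    rw [map_add, h.gram_act, h.gram_act, hrev _ hp.kill_z, hrev _ hp.kill_w, hp.m, hp.qw, mul_one, mul_zero,
      add_zero] at ea
    rw [map_add, h.gram_act, h.gram_act, hrev _ hp.kill_z, hrev _ hp.kill_w, hp.qz, hp.m' h, mul_one, mul_zero,
      zero_add] at eb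
    rw [pow_succ]
    exact ⟨mul_dvd_mul_left _ ((dvd_uu_iff _).mpr ea), mul_dvd_mul_left _ ((dvd_uu_iff _).mpr eb)⟩

theorem nd (hp : Pair B x e z w) (h : Ctx2 B x N) :
    Nd B (LinearMap.range (orb x z) ⊔ LinearMap.range (orb x w)) := by
  intro v hv hzero
  obtain ⟨-, ⟨a, rfl⟩, -, ⟨b, rfl⟩, rfl⟩ := Submodule.mem_sup.mp hv
  obtain ⟨ha, hb⟩ := hp.indep h (a := a) (b := b) (fun r => hzero _ (Submodule.mem_sup_left ⟨r, rfl⟩))
    (fun r => hzero _ (Submodule.mem_sup_right ⟨r, rfl⟩)) e le_rfl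
  rw [orb_apply, orb_apply, act_zero_of_dvd hp.kill_z ha, act_zero_of_dvd hp.kill_w hb, add_zero]

theorem finrank [FiniteDimensional K V] (hp : Pair B x e z w) (h : Ctx2 B x N) :
    Module.finrank K (LinearMap.range (orb x z) ⊔ LinearMap.range (orb x w) : Submodule K V) = 2 * e := by
  have hinf : LinearMap.range (orb x z) ⊓ LinearMap.range (orb x w) = ⊥ := by
    refine (Submodule.eq_bot_iff _).mpr fun v hv => ?_
    obtain ⟨⟨a, rfl⟩, b, hb⟩ := Submodule.mem_inf.mp hv
    rw [orb_apply] at hb ⊢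
    have h0 : act x a z + act x b w = 0 := by
      rw [hb, orb_apply, ← two_smul K, h.two, zero_smul]
    obtain ⟨ha, -⟩ := hp.indep h (a := a) (b := b) (fun r => by rw [h0, map_zero]) (fun r => by rw [h0, map_zero]) e le_rfl
    exact act_zero_of_dvd hp.kill_z ha
  have hdim : ∀ {z w : V}, Pair B x e z w → Module.finrank K (LinearMap.range (orb x z)) = e := fun {z w} hp => by
    rw [finrank_range_orb (uu_monic.pow e) (fun a => ⟨exact_dvd uu_irr hp.kill_z
      (gram_q_ne (w := w) ⟨1, by rw [one_mul, hp.m]; exact one_ne_zero⟩), act_zero_of_dvd hp.kill_z⟩),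
      natDegree_pow, natDegree_X_sub_C, mul_one]
  have h1 := Submodule.finrank_sup_add_finrank_inf_eq (LinearMap.range (orb x z)) (LinearMap.range (orb x w))
  rw [hinf, finrank_bot, add_zero, hdim hp, hdim (hp.swap h)] at h1
  omega

end Pair

end CfsgLib.IsometryTwo
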