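import Cfsg.Agent.Lib.IsometryTwo.Pair

/-!
The pieces of an isometry of an alternating form in characteristic two.
-/

set_option autoImplicit false
set_option linter.unusedSectionVars false

namespace CfsgLib.IsometryTwo

open Polynomial CfsgLib.IsometryClasses

universe u v w

variable {K : Type u} [Field K] [Fintype K] {V : Type v} [AddCommGroup V] [Module K V]
  {B : V →ₗ[K] V →ₗ[K] K} {x : Module.End K V} {N : ℕ}

/-- The value of the twist. -/
noncomputable def tv (K : Type u) [Field K] (s : Bool) : K := if s then tau0 K else 0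

/-- A cyclic piece away from one. -/
structure IsC2 (B : V →ₗ[K] V →ₗ[K] K) (x : Module.End K V) (p : K[X]) (e : ℕ) (v : V) : Prop where
  mon : p.Monic
  irr : Irreducible p
  he : 1 ≤ e
  p0 : p.coeff 0 ≠ 0
  self : du p = p
  ne : p ≠ uu K
  kill : act x (p ^ e) v = 0
  top : ∃ r, gram B x v v (r * p ^ (e - 1)) ≠ 0

/-- A hyperbolic piece away from one. -/
structure IsH2 (B : V →ₗ[K] V →ₗ[K] K) (x : Module.End K V) (p : K[X]) (e : ℕ) (v w : V) : Prop where
  mon : p.Monic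
  irr : Irreducible p
  he : 1 ≤ e
  p0 : p.coeff 0 ≠ 0
  shape : p ≠ du p
  kill_v : act x (p ^ e) v = 0
  kill_w : act x (du p ^ e) w = 0
  iso_v : ∀ r, gram B x v v r = 0
  iso_w : ∀ r, gram B x w w r = 0
  top : ∃ r, gram B x w v (r * p ^ (e - 1)) ≠ 0

/-- A cyclic piece at one. -/
structure IsV (B : V →ₗ[K] V →ₗ[K] K) (x : Module.End K V) (e : ℕ) (s : Bool) (v : V) : Prop where
  he : 2 ≤ e
  ev : Even e
  kill : act x ((uu K) ^ e) v = 0
  q : gram B x v v ((uu K) ^ (e - 1)) = 1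
  f : 4 ≤ e → gram B x v v ((uu K) ^ (e - 3)) = tv K s
  hs : s = true → 4 ≤ e

/-- A pair piece at one. -/
structure IsW (B : V →ₗ[K] V →ₗ[K] K) (x : Module.End K V) (e : ℕ) (s : Bool) (z w : V) : Prop
    extends Pair B x e z w where
  fz : 2 ≤ e → gram B x z z ((uu K) ^ (e - 2)) = if s then 1 else 0
  fw : 2 ≤ e → gram B x w w ((uu K) ^ (e - 2)) = tv K s
  hs : s = true → Odd e ∧ 3 ≤ e

theorem top_nd (h : Ctx2 B x N) {p : K[X]} {e : ℕ} (hp : Irreducible p) {v : V} (hk : act x (p ^ e) v = 0)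
    (ht : ∃ r, gram B x v v (r * p ^ (e - 1)) ≠ 0) : Nd B (LinearMap.range (orb x v)) := by
  have hT : Top p e (gram B x v v) :=
    ⟨fun r hr => by rw [gram_apply, act_zero_of_dvd hk hr, map_zero], ht⟩
  have hd : p ^ e ∣ X ^ N - 1 := exact_dvd hp hk (gram_q_ne ht) (h.kill v)
  rintro u ⟨a, rfl⟩ hu
  rw [orb_apply]
  refine act_zero_of_dvd hk (hT.nondeg hp fun r => ?_)
  have h1 : B (act x (rev N r) v) (act x a v) = 0 := hu _ ⟨rev N r, rfl⟩
  rw [h.gram_act] at h1
  rw [← h1]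
  refine hT.eq_of_dvd (hd.trans ?_)
  rw [← sub_mul]
  exact dvd_mul_of_dvd_left (dvd_sub_comm.mp (rev_rev h.pos r)) _

namespace IsC2

variable {p : K[X]} {e : ℕ} {v : V}

theorem toTop (hv : IsC2 B x p e v) : Top p e (gram B x v v) :=
  ⟨fun r hr => by rw [gram_apply, act_zero_of_dvd hv.kill hr, map_zero], hv.top⟩

theorem zero_iff (hv : IsC2 B x p e v) (a : K[X]) : act x a v = 0 ↔ p ^ e ∣ a :=
  ⟨exact_dvd hv.irr hv.kill (gram_q_ne hv.top), act_zero_of_dvd hv.kill⟩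

theorem finrank [FiniteDimensional K V] (hv : IsC2 B x p e v) :
    Module.finrank K (LinearMap.range (orb x v)) = e * p.natDegree := by
  rw [finrank_range_orb (hv.mon.pow e) hv.zero_iff, natDegree_pow]

end IsC2

namespace IsV

variable {e : ℕ} {s : Bool} {v : V}

theorem top (hv : IsV B x e s v) : ∃ r, gram B x v v (r * (uu K) ^ (e - 1)) ≠ 0 :=
  ⟨1, by rw [one_mul, hv.q]; exact one_ne_zero⟩

theorem zero_iff (hv : IsV B x e s v) (a : K[X]) : act x a v = 0 ↔ (uu K) ^ e ∣ a :=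
  ⟨exact_dvd uu_irr hv.kill (gram_q_ne hv.top), act_zero_of_dvd hv.kill⟩

theorem finrank [FiniteDimensional K V] (hv : IsV B x e s v) :
    Module.finrank K (LinearMap.range (orb x v)) = e := by
  rw [finrank_range_orb (uu_monic.pow e) hv.zero_iff, natDegree_pow, natDegree_X_sub_C, mul_one]

end IsV

namespace IsH2

variable {p : K[X]} {e : ℕ} {v w : V}

theorem toTop (hv : IsH2 B x p e v w) : Top p e (gram B x w v) :=
  ⟨fun r hr => by rw [gram_apply, act_zero_of_dvd hv.kill_v hr, map_zero], hv.top⟩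

theorem zero_iff (hv : IsH2 B x p e v w) (a : K[X]) : act x a v = 0 ↔ p ^ e ∣ a :=
  ⟨exact_dvd hv.irr hv.kill_v (gram_q_ne hv.top), act_zero_of_dvd hv.kill_v⟩

theorem dvd (hv : IsH2 B x p e v w) (h : Ctx2 B x N) : p ^ e ∣ X ^ N - 1 := (hv.zero_iff _).mp (h.kill v)

theorem swap (hv : IsH2 B x p e v w) (h : Ctx2 B x N) : IsH2 B x (du p) e w v := by
  obtain ⟨hm, hi, h0, -⟩ := du_props ⟨hv.mon, hv.irr⟩ hv.p0
  refine ⟨hm, hi, hv.he, h0, by rw [du_du hv.mon hv.p0]; exact Ne.symm hv.shape, hv.kill_w,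
    by rw [du_du hv.mon hv.p0]; exact hv.kill_v, hv.iso_w, hv.iso_v, ?_⟩
  obtain ⟨s, hs⟩ := hv.top
  obtain ⟨m, m', hm1, hm2⟩ := rev_du_pow h.pos hv.p0 (e - 1)
  refine ⟨rev N (s * m'), fun h1 => hs ?_⟩
  rw [h.gram_swap, rev_mul] at h1
  rw [gram_apply, h.congr (r := s * p ^ (e - 1)) (s := s * m' * (m * p ^ (e - 1))) ?_]
  · rw [gram_apply, h.congr (s := s * m' * (m * p ^ (e - 1)))] at h1
    · exact h1
    · rw [show rev N (rev N (s * m')) * rev N (du p ^ (e - 1)) - s * m' * (m * p ^ (e - 1)) =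
        (rev N (rev N (s * m')) - s * m') * rev N (du p ^ (e - 1)) +
          s * m' * (rev N (du p ^ (e - 1)) - m * p ^ (e - 1)) by ring]
      exact dvd_add (dvd_mul_of_dvd_left (rev_rev h.pos _) _) (dvd_mul_of_dvd_right hm1 _)
  · rw [show s * p ^ (e - 1) - s * m' * (m * p ^ (e - 1)) = -(s * p ^ (e - 1)) * (m * m' - 1) by ring]
    exact dvd_mul_of_dvd_right hm2 _

theorem pair_v (hv : IsH2 B x p e v w) (h : Ctx2 B x N) {a : K[X]}
    (ha : ∀ r, B (act x r w) (act x a v) = 0) : act x a v = 0 := by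
  rw [hv.zero_iff]
  refine hv.toTop.nondeg hv.irr fun r => ?_
  have h1 := ha (rev N r)
  rw [h.gram_act] at h1
  rw [← h1]
  refine hv.toTop.eq_of_dvd ((hv.dvd h).trans ?_)
  rw [← sub_mul]
  exact dvd_mul_of_dvd_left (dvd_sub_comm.mp (rev_rev h.pos r)) _

theorem iso_pair (hv : IsH2 B x p e v w) (h : Ctx2 B x N) (a b : K[X]) : B (act x a v) (act x b v) = 0 := by
  rw [h.gram_act, hv.iso_v]

theorem nd (hv : IsH2 B x p e v w) (h : Ctx2 B x N) :
    Nd B (LinearMap.range (orb x v) ⊔ LinearMap.range (orb x w)) := by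
  intro u hu hz
  obtain ⟨-, ⟨a, rfl⟩, -, ⟨b, rfl⟩, rfl⟩ := Submodule.mem_sup.mp hu
  have h1 : act x a v = 0 := hv.pair_v h fun r => by
    have := hz (act x r w) (Submodule.mem_sup_right ⟨r, rfl⟩)
    rwa [map_add, orb_apply, orb_apply, (hv.swap h).iso_pair h, add_zero] at this
  have h2 : act x b w = 0 := (hv.swap h).pair_v h fun r => by
    have := hz (act x r v) (Submodule.mem_sup_left ⟨r, rfl⟩)
    rwa [map_add, orb_apply, orb_apply, hv.iso_pair h, zero_add] at this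
  rw [orb_apply, orb_apply, h1, h2, add_zero]

theorem finrank [FiniteDimensional K V] (hv : IsH2 B x p e v w) (h : Ctx2 B x N) :
    Module.finrank K (LinearMap.range (orb x v) ⊔ LinearMap.range (orb x w) : Submodule K V) =
      e * (p * du p).natDegree := by
  have hinf : LinearMap.range (orb x v) ⊓ LinearMap.range (orb x w) = ⊥ := by
    refine (Submodule.eq_bot_iff _).mpr fun u hu => ?_
    obtain ⟨⟨a, rfl⟩, b, hb⟩ := Submodule.mem_inf.mp hu
    refine hv.nd h _ (Submodule.mem_sup_left ⟨a, rfl⟩) fun z hz => ?_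
    obtain ⟨-, ⟨c, rfl⟩, -, ⟨d, rfl⟩, rfl⟩ := Submodule.mem_sup.mp hz
    rw [map_add, LinearMap.add_apply]
    conv_lhs => arg 2; rw [← hb]
    rw [orb_apply, orb_apply, orb_apply, orb_apply, hv.iso_pair h, (hv.swap h).iso_pair h, add_zero]
  have h1 := Submodule.finrank_sup_add_finrank_inf_eq (LinearMap.range (orb x v)) (LinearMap.range (orb x w))
  rw [hinf, finrank_bot, add_zero, finrank_range_orb (hv.mon.pow e) hv.zero_iff,
    finrank_range_orb ((hv.swap h).mon.pow e) (hv.swap h).zero_iff, natDegree_pow, natDegree_pow] at h1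
  rw [h1, natDegree_mul hv.mon.ne_zero (hv.swap h).mon.ne_zero, mul_add]

end IsH2

variable {V' : Type w} [AddCommGroup V'] [Module K V'] {B' : V' →ₗ[K] V' →ₗ[K] K} {y : Module.End K V'}

theorem exists_iso_cyclic (h : Ctx2 B x N) (h' : Ctx2 B' y N) {p : K[X]} {e : ℕ} (hp : Irreducible p) {v : V}
    {v' : V'} (hk : act y (p ^ e) v' = 0) (ht : ∃ r, gram B x v v (r * p ^ (e - 1)) ≠ 0) {c : K[X]}
    (hc : ∀ r, gram B x v v r = gram B' y v' v' (r * (rev N c * c))) :
    ∃ T, Iso B x B' y (LinearMap.range (orb x v)) (LinearMap.range (orb y v')) T := by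
  set v₁ := act y c v' with hv1
  have hg : ∀ r, gram B' y v₁ v₁ r = gram B x v v r := fun r => by
    rw [hc, hv1, h'.gram_act_left, gram_act_right]
    congr 1
    ring
  have hnd : Nd B' (LinearMap.range (orb y v₁)) := by
    refine top_nd h' hp (by rw [hv1, act_mul_comm, hk, act, map_zero]) ?_
    obtain ⟨r, hr⟩ := ht
    exact ⟨r, by rwa [hg]⟩
  refine exists_map (orb x v) (orb y v₁) (fun a => X * a) (orb_X v) (orb_X v₁) (fun a b => ?_) hnd ?_
  · rw [orb_apply, orb_apply, orb_apply, orb_apply, h.gram_act, h'.gram_act, hg]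
  · rintro - ⟨a, rfl⟩
    exact ⟨a * c, by rw [orb_apply, act_mul, orb_apply]⟩

theorem IsC2.exists_iso {p : K[X]} {e : ℕ} {v : V} {v' : V'} (hv : IsC2 B x p e v) (hv' : IsC2 B' y p e v')
    (h : Ctx2 B x N) (h' : Ctx2 B' y N) :
    ∃ T, Iso B x B' y (LinearMap.range (orb x v)) (LinearMap.range (orb y v')) T := by
  obtain ⟨c, hc⟩ := exists_congr_sd h.pos h.two ⟨hv.mon, hv.irr⟩ hv.self hv.ne hv.he
    ((hv.zero_iff _).mp (h.kill v)) hv'.toTop hv.toTop (h'.gram_swap v' v') (h.gram_swap v v)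
  exact exists_iso_cyclic h h' hv.irr hv'.kill hv.top hc

theorem IsV.exists_iso {e : ℕ} {s : Bool} {v : V} {v' : V'} (hv : IsV B x e s v) (hv' : IsV B' y e s v')
    (h : Ctx2 B x N) (h' : Ctx2 B' y N) :
    ∃ T, Iso B x B' y (LinearMap.range (orb x v)) (LinearMap.range (orb y v')) T := by
  obtain ⟨c, hc⟩ := exists_congr_cyc h.pos h.two ((hv.zero_iff _).mp (h.kill v)) (h'.gram_alt hv'.kill)
    (h.gram_alt hv.kill) hv.ev hv.he hv'.q hv.q (fun h4 => by rw [hv'.f h4, hv.f h4])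
  exact exists_iso_cyclic h h' uu_irr hv'.kill hv.top hc

theorem exists_iso_pair (h : Ctx2 B x N) (h' : Ctx2 B' y N) {z w : V} {z' w' : V'}
    (hzz : ∀ r, gram B' y z' z' r = gram B x z z r) (hww : ∀ r, gram B' y w' w' r = gram B x w w r)
    (hwz : ∀ r, gram B' y w' z' r = gram B x w z r)
    (hnd : Nd B' (LinearMap.range (orb y z') ⊔ LinearMap.range (orb y w'))) {U' : Submodule K V'}
    (hz : z' ∈ U') (hw : w' ∈ U') (hU : Inv y U') :
    ∃ T, Iso B x B' y (LinearMap.range (orb x z) ⊔ LinearMap.range (orb x w)) U' T := by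
  obtain ⟨T, hT⟩ := exists_map (M := K[X] × K[X]) (x := x) (B := B) (y := y) (B' := B')
    ((orb x z).coprod (orb x w)) ((orb y z').coprod (orb y w'))
    (fun a => (X * a.1, X * a.2))
    (fun a => by simp only [LinearMap.coprod_apply, orb_X, map_add])
    (fun a => by simp only [LinearMap.coprod_apply, orb_X, map_add])
    (fun a b => by
      simp only [LinearMap.coprod_apply, map_add, LinearMap.add_apply, orb_apply]
      rw [h.gram_act a.1 b.2, h'.gram_act a.1 b.2, h.gram_swap z w, h'.gram_swap z' w']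
      simp only [h.gram_act, h'.gram_act, hzz, hww, hwz])
    (by rw [LinearMap.range_coprod]; exact hnd)
    (U' := U') (by
      rw [LinearMap.range_coprod]
      refine sup_le ?_ ?_ <;> rintro - ⟨a, rfl⟩
      exacts [hU.act_mem a hz, hU.act_mem a hw])
  rw [LinearMap.range_coprod] at hT
  exact ⟨T, hT⟩

theorem inv_pair (z w : V) : Inv x (LinearMap.range (orb x z) ⊔ LinearMap.range (orb x w)) := by
  intro u hu
  obtain ⟨a, ha, b, hb, rfl⟩ := Submodule.mem_sup.mp hu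
  rw [map_add]
  exact Submodule.add_mem_sup (inv_range_orb z a ha) (inv_range_orb w b hb)

theorem mem_orb (z : V) : z ∈ LinearMap.range (orb x z) := ⟨1, by simp [orb_apply, act]⟩

theorem IsW.exists_iso {e : ℕ} {s : Bool} {z w : V} {z' w' : V'} (hv : IsW B x e s z w)
    (hv' : IsW B' y e s z' w') (h : Ctx2 B x N) (h' : Ctx2 B' y N) :
    ∃ T, Iso B x B' y (LinearMap.range (orb x z) ⊔ LinearMap.range (orb x w))
      (LinearMap.range (orb y z') ⊔ LinearMap.range (orb y w')) T := by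
  obtain ⟨z₁, hz₁, w₁, hw₁, hp₁, a, b, c⟩ := hv'.toPair.exists_match h' (inv_pair z' w')
    (Submodule.mem_sup_left (mem_orb z')) (Submodule.mem_sup_right (mem_orb w'))
    (h.gram_alt hv.kill_z) (h.gram_alt hv.kill_w) (gram_kill h hv.kill_z w) hv.qz hv.qw hv.m
    (fun h2 => (hv'.fz h2).trans (hv.fz h2).symm) (fun h2 => (hv'.fw h2).trans (hv.fw h2).symm)
  exact exists_iso_pair h h' a b c (hp₁.nd h') hz₁ hw₁ (inv_pair z' w')

theorem IsH2.exists_iso {p : K[X]} {e : ℕ} {v w : V} {v' w' : V'} (hv : IsH2 B x p e v w)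
    (hv' : IsH2 B' y p e v' w') (h : Ctx2 B x N) (h' : Ctx2 B' y N) :
    ∃ T, Iso B x B' y (LinearMap.range (orb x v) ⊔ LinearMap.range (orb x w))
      (LinearMap.range (orb y v') ⊔ LinearMap.range (orb y w')) T := by
  obtain ⟨u, hu⟩ := exists_rep ⟨hv.mon, hv.irr⟩ hv'.toTop hv.toTop.kill
  set v₁ := act y u v' with hv1
  have hg : ∀ r, gram B' y w' v₁ r = gram B x w v r := fun r => by
    rw [hu, hv1, gram_act_right]
  have hiso : ∀ r, gram B' y v₁ v₁ r = 0 := fun r => by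
    rw [hv1, h'.gram_act_left, gram_act_right]
    exact hv'.iso_v _
  have hv₁ : IsH2 B' y p e v₁ w' := by
    refine ⟨hv.mon, hv.irr, hv.he, hv.p0, hv.shape, ?_, hv'.kill_w, hiso, hv'.iso_w, ?_⟩
    · rw [hv1, act_mul_comm, hv'.kill_v, act, map_zero]
    · obtain ⟨r, hr⟩ := hv.top
      exact ⟨r, by rwa [hg]⟩
  exact exists_iso_pair h h' (fun r => (hiso r).trans (hv.iso_v r).symm)
    (fun r => (hv'.iso_w r).trans (hv.iso_w r).symm) hg (hv₁.nd h')
    ((inv_pair v' w').act_mem u (Submodule.mem_sup_left (mem_orb v'))) (Submodule.mem_sup_right (mem_orb w'))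
    (inv_pair v' w')

/-- The labels of pieces. -/
inductive Tag2 (K : Type u) [Field K] : Type u
  | plain (P : K[X]) (e : ℕ)
  | cyc (e : ℕ) (s : Bool)
  | tw (e : ℕ)

/-- The dimension of a piece. -/
noncomputable def Tag2.dim : Tag2 K → ℕ
  | .plain P e => e * P.natDegree
  | .cyc e _ => e
  | .tw e => 2 * e

/-- A piece with its label. -/
def IsPiece2 (B : V →ₗ[K] V →ₗ[K] K) (x : Module.End K V) : Tag2 K → Submodule K V → Prop
  | .plain P e, W => (∃ v, IsC2 B x P e v ∧ W = LinearMap.range (orb x v)) ∨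
      (∃ p v w, IsH2 B x p e v w ∧ P = p * du p ∧ W = LinearMap.range (orb x v) ⊔ LinearMap.range (orb x w)) ∨
      (∃ z w, IsW B x e false z w ∧ P = uu K * uu K ∧ W = LinearMap.range (orb x z) ⊔ LinearMap.range (orb x w))
  | .cyc e s, W => ∃ v, IsV B x e s v ∧ W = LinearMap.range (orb x v)
  | .tw e, W => ∃ z w, IsW B x e true z w ∧ W = LinearMap.range (orb x z) ⊔ LinearMap.range (orb x w)

theorem IsPiece2.nd {t : Tag2 K} {W : Submodule K V} (hW : IsPiece2 B x t W) (h : Ctx2 B x N) : Nd B W := by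
  rcases t with ⟨P, e⟩ | ⟨e, s⟩ | e
  · rcases hW with ⟨v, hv, rfl⟩ | ⟨p, v, w, hv, -, rfl⟩ | ⟨z, w, hv, -, rfl⟩
    exacts [top_nd h hv.irr hv.kill hv.top, hv.nd h, hv.toPair.nd h]
  · obtain ⟨v, hv, rfl⟩ := hW
    exact top_nd h uu_irr hv.kill hv.top
  · obtain ⟨z, w, hv, rfl⟩ := hW
    exact hv.toPair.nd h

theorem IsPiece2.inv {t : Tag2 K} {W : Submodule K V} (hW : IsPiece2 B x t W) : Inv x W := by
  rcases t with ⟨P, e⟩ | ⟨e, s⟩ | e
  · rcases hW with ⟨v, hv, rfl⟩ | ⟨p, v, w, hv, -, rfl⟩ | ⟨z, w, hv, -, rfl⟩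
    exacts [inv_range_orb v, inv_pair v w, inv_pair z w]
  · obtain ⟨v, hv, rfl⟩ := hW
    exact inv_range_orb v
  · obtain ⟨z, w, hv, rfl⟩ := hW
    exact inv_pair z w

theorem IsPiece2.finrank [FiniteDimensional K V] {t : Tag2 K} {W : Submodule K V} (hW : IsPiece2 B x t W)
    (h : Ctx2 B x N) : Module.finrank K W = t.dim := by
  rcases t with ⟨P, e⟩ | ⟨e, s⟩ | e
  · rcases hW with ⟨v, hv, rfl⟩ | ⟨p, v, w, hv, rfl, rfl⟩ | ⟨z, w, hv, rfl, rfl⟩
    · exact hv.finrank
    · exact hv.finrank h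
    · rw [hv.toPair.finrank h, Tag2.dim, natDegree_mul (X_sub_C_ne_zero 1) (X_sub_C_ne_zero 1), natDegree_X_sub_C,
        mul_comm 2 e]
  · obtain ⟨v, hv, rfl⟩ := hW
    exact hv.finrank
  · obtain ⟨z, w, hv, rfl⟩ := hW
    exact hv.toPair.finrank h

theorem prime_pair2 {p p' P : K[X]} {e : ℕ} {v w : V} (hv : IsH2 B x p e v w) (hP : P = p * du p)
    (hm : p'.Monic) (hi : Irreducible p') (hP' : P = p' * du p') (h : Ctx2 B x N) : p' = p ∨ p' = du p := by
  have h1 : p' ∣ p * du p := (hP'.symm.trans hP) ▸ dvd_mul_right p' _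
  rcases hi.prime.dvd_mul.mp h1 with h2 | h2
  · exact Or.inl (eq_of_monic_of_associated hm hv.mon (hi.associated_of_dvd hv.irr h2))
  · exact Or.inr (eq_of_monic_of_associated hm (hv.swap h).mon (hi.associated_of_dvd (hv.swap h).irr h2))

theorem IsPiece2.exists_iso {t : Tag2 K} {W : Submodule K V} {W' : Submodule K V'}
    (hW : IsPiece2 B x t W) (hW' : IsPiece2 B' y t W') (h : Ctx2 B x N) (h' : Ctx2 B' y N) :
    ∃ T, Iso B x B' y W W' T := by
  rcases t with ⟨P, e⟩ | ⟨e, s⟩ | e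
  · have irr2 : ∀ a b : K[X], Irreducible a → Irreducible b → ¬ Irreducible (a * b) := fun a b ha hb hab =>
      (hab.isUnit_or_isUnit rfl).elim ha.not_isUnit hb.not_isUnit
    have pu : ∀ p : K[X], p.Monic → Irreducible p → p ≠ du p → p * du p ≠ uu K * uu K := fun p hm hi hne hP => by
      have h1 : p ∣ uu K * uu K := hP ▸ dvd_mul_right p _
      have hp : p = uu K := eq_of_monic_of_associated hm uu_monic
        (hi.associated_of_dvd uu_irr ((hi.prime.dvd_mul.mp h1).elim id id))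
      exact hne (by rw [hp, uu_du])
    rcases hW with ⟨v, hv, rfl⟩ | ⟨p, v, w, hv, hP, rfl⟩ | ⟨z, w, hv, hP, rfl⟩ <;>
      rcases hW' with ⟨v', hv', rfl⟩ | ⟨p', v', w', hv', hP', rfl⟩ | ⟨z', w', hv', hP', rfl⟩
    · exact hv.exists_iso hv' h h'
    · exact absurd (hP' ▸ hv.irr) (irr2 _ _ hv'.irr (hv'.swap h').irr)
    · exact absurd (hP' ▸ hv.irr) (irr2 _ _ uu_irr uu_irr)
    · exact absurd (hP ▸ hv'.irr) (irr2 _ _ hv.irr (hv.swap h).irr)
    · rcases prime_pair2 hv hP hv'.mon hv'.irr hP' h with rfl | rfl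
      · exact hv.exists_iso hv' h h'
      · have h3 := hv'.swap h'
        rw [du_du hv.mon hv.p0] at h3
        rw [sup_comm (LinearMap.range (orb y v'))]
        exact hv.exists_iso h3 h h'
    · exact absurd (hP.symm.trans hP') (pu p hv.mon hv.irr hv.shape)
    · exact absurd (hP ▸ hv'.irr) (irr2 _ _ uu_irr uu_irr)
    · exact absurd (hP'.symm.trans hP) (pu p' hv'.mon hv'.irr hv'.shape)
    · exact hv.exists_iso hv' h h'
  · obtain ⟨v, hv, rfl⟩ := hW
    obtain ⟨v', hv', rfl⟩ := hW'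
    exact hv.exists_iso hv' h h'
  · obtain ⟨z, w, hv, rfl⟩ := hW
    obtain ⟨z', w', hv', rfl⟩ := hW'
    exact hv.exists_iso hv' h h'

end CfsgLib.IsometryTwo
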