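import Cfsg.Agent.Lib.IsometryTwo.Data
import Mathlib.LinearAlgebra.SymplecticGroup

/-!
The upper bound for the number of classes of the symplectic group in characteristic two.
-/

set_option autoImplicit false
set_option linter.unusedSectionVars false

namespace CfsgLib.IsometryTwo

open Polynomial Matrix CfsgLib.IsometryClasses

universe u

variable {K : Type u} [Field K] [Fintype K]

variable (K) in
/-- The type of invariants. -/
def Dat (n : ℕ) : Type u :=
  Σ t : {t : Fin n → Tok // okP n t = true ∧ wtP n t ≤ n},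
    Σ D : {D : Fin n → Fin (n + 1) // ∑ i, (i.val + 1) * (D i).val = n - wtP n t.1}, ∀ i, SD1 K (D.1 i).val

theorem dat_bound (n : ℕ) :
    Finite (Dat K n) ∧ (Nat.card (Dat K n) : ℚ) ≤ 76 / 5 * (Fintype.card K : ℚ) ^ n := by
  classical
  haveI : ∀ D, Finite (SD1 K D) := fun D => (SD1.bound D).1
  haveI : Finite (Dat K n) := by unfold Dat; infer_instance
  refine ⟨inferInstance, le_trans ?_ (total_le _ Fintype.one_lt_card n)⟩
  rw [Dat, Nat.card_sigma, ← Finset.sum_filter]
  push_cast
  rw [Finset.sum_subtype (p := fun t : Fin n → Tok => okP n t = true ∧ wtP n t ≤ n)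
    (F := inferInstance) _ (fun t => by simp)]
  refine Finset.sum_le_sum fun t _ => ?_
  rw [Nat.card_sigma, ← Finset.sum_filter]
  push_cast
  rw [Finset.sum_subtype (p := fun D : Fin n → Fin (n + 1) => ∑ i, (i.val + 1) * (D i).val = n - wtP n t.1)
    (F := inferInstance) _ (fun t => by simp)]
  refine Finset.sum_le_sum fun D _ => ?_
  rw [← Finset.prod_pow_eq_pow_sum, Nat.card_pi]
  push_cast
  exact Finset.prod_le_prod (fun i _ => by positivity) fun i _ => by exact_mod_cast (SD1.bound _).2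

/-- The invariant of a multiset of labels. -/
theorem exists_dat (h2 : (2 : K) = 0) {n : ℕ} {m : Multiset (Tag2 K)} (hm : ∀ t ∈ m, VTag2 t) (hc : Canon2 m)
    (hdim : (m.map Tag2.dim).sum = 2 * n) :
    ∃ d : Dat K n, (∀ i : Fin n, d.1.1 i = tokAt m (i.val + 1)) ∧
      ∀ i : Fin n, (d.2.2 i).1.1 = gAt m (i.val + 1) := by
  have hw := weight_eq h2 hm hc hdim
  have hok := (okP_of_forall n (fun j => tokAt m (j + 1)) fun i => tokAt_allowed hm hc i).1
  have hle : ∀ i : Fin n, (gAt m (i.val + 1)).natDegree / 2 < n + 1 := fun i => by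
    have h1 : (i.val + 1) * ((gAt m (i.val + 1)).natDegree / 2) ≤
        ∑ i : Fin n, (i.val + 1) * ((gAt m (i.val + 1)).natDegree / 2) :=
      Finset.single_le_sum (f := fun i : Fin n => (i.val + 1) * ((gAt m (i.val + 1)).natDegree / 2))
        (fun _ _ => Nat.zero_le _) (Finset.mem_univ i)
    have h3 := Nat.le_mul_of_pos_left ((gAt m (i.val + 1)).natDegree / 2) i.val.succ_pos
    simp only [Nat.succ_eq_add_one] at h3
    omega
  refine ⟨⟨⟨fun i => tokAt m (i.val + 1), hok, by omega⟩,
    ⟨fun i => ⟨(gAt m (i.val + 1)).natDegree / 2, hle i⟩, by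
      show ∑ i : Fin n, (i.val + 1) * ((gAt m (i.val + 1)).natDegree / 2) = n - wtP n (fun i => tokAt m (i.val + 1))
      omega⟩,
    fun i => ⟨⟨gAt m (i.val + 1), (gAt_good h2 hm _).1, ?_, (gAt_good h2 hm _).2.1, ?_⟩, (gAt_good h2 hm _).2.2.1⟩⟩,
    fun i => rfl, fun i => rfl⟩
  · obtain ⟨k, hk⟩ := (gAt_good h2 hm (i.val + 1)).2.2.2
    show _ = 2 * ((gAt m (i.val + 1)).natDegree / 2)
    omega
  · rw [(gAt_good h2 hm _).2.2.1]
    exact one_ne_zero

/-- The symplectic groups in characteristic two have at most `15.2 q ^ n` classes. -/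
theorem sp_classes_le_two (h2 : (2 : K) = 0) (n : ℕ) :
    (Nat.card (ConjClasses (Matrix.symplecticGroup (Fin n) K)) : ℚ) ≤ 76 / 5 * (Fintype.card K : ℚ) ^ n := by
  classical
  set G := ↥(Matrix.symplecticGroup (Fin n) K)
  set B : ((Fin n ⊕ Fin n) → K) →ₗ[K] ((Fin n ⊕ Fin n) → K) →ₗ[K] K :=
    Matrix.toLinearMap₂' K (Matrix.J (Fin n) K) with hB
  haveI : Finite (Matrix (Fin n ⊕ Fin n) (Fin n ⊕ Fin n) K) := inferInstanceAs (Finite (_ → _ → K))
  haveI : Finite G := Subtype.finite
  have hBapp : ∀ u v, B u v = u ⬝ᵥ Matrix.J (Fin n) K *ᵥ v := fun u v => Matrix.toLinearMap₂'_apply' _ u v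
  have hpres : ∀ (A : Matrix (Fin n ⊕ Fin n) (Fin n ⊕ Fin n) K), A ∈ Matrix.symplecticGroup (Fin n) K →
      ∀ u v, B (A *ᵥ u) (A *ᵥ v) = B u v := fun A hA u v => by
    rw [hBapp, hBapp, Matrix.mulVec_mulVec, ← Matrix.vecMul_transpose, ← Matrix.dotProduct_mulVec,
      Matrix.mulVec_mulVec, ← Matrix.mul_assoc, SymplecticGroup.mem_iff'.mp hA]
  have hctx : ∀ g : G, Ctx2 B (Matrix.toLinAlgEquiv' g.1) (Nat.card G) := fun g =>
    ⟨Nat.card_pos,
      by
        rw [← map_pow, show g.1 ^ Nat.card G = ((g ^ Nat.card G : G) : Matrix _ _ K) from (SubmonoidClass.coe_pow g _).symm,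
          pow_card_eq_one']
        exact map_one _,
      fun u v => by rw [Matrix.toLinAlgEquiv'_apply, Matrix.toLinAlgEquiv'_apply, hpres g.1 g.2],
      fun u => by
        rw [hBapp]
        simp only [dotProduct, Matrix.mulVec, Matrix.J, Fintype.sum_sum_type, Matrix.fromBlocks_apply₁₁,
          Matrix.fromBlocks_apply₁₂, Matrix.fromBlocks_apply₂₁, Matrix.fromBlocks_apply₂₂, Matrix.zero_apply,
          Matrix.neg_apply, Matrix.one_apply, zero_mul, Finset.sum_const_zero, zero_add, add_zero, ite_mul,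
          neg_mul, Finset.sum_neg_distrib, one_mul, Finset.sum_ite_eq, Finset.mem_univ, if_true]
        rw [← Finset.sum_add_distrib]
        exact Finset.sum_eq_zero fun i _ => by ring,
      h2⟩
  have hnd : ∀ u, (∀ w, B w u = 0) → u = 0 := fun u hu => by
    have h1 : Matrix.J (Fin n) K *ᵥ u = 0 := by
      refine funext fun i => ?_
      have := hu (Pi.single i 1)
      rwa [hBapp, single_one_dotProduct] at this
    by_contra hne
    exact (Matrix.isUnit_det_J (Fin n) K).ne_zero (Matrix.exists_mulVec_eq_zero_iff.mp ⟨u, hne, h1⟩)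
  have hframe : ∀ g : G, ∃ m, Frame2 B (Matrix.toLinAlgEquiv' g.1) ⊤ m ∧ Canon2 m := fun g =>
    exists_frame2 (hctx g) _ ⊤ le_rfl (fun u _ => trivial) fun u _ hz => hnd u fun w => hz w trivial
  choose M hM hcan using hframe
  have hdim : ∀ g : G, ((M g).map Tag2.dim).sum = 2 * n := fun g => by
    rw [← (hM g).finrank (hctx g), finrank_top, Module.finrank_pi, Fintype.card_sum, Fintype.card_fin, two_mul]
  choose Φ hΦt hΦg using fun g : G => exists_dat h2 ((hM g).vtag) (hcan g) (hdim g)
  obtain ⟨hfin, hcard⟩ := dat_bound (K := K) n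
  refine le_trans ?_ hcard
  have hinj : Function.Injective fun c : ConjClasses G => Φ c.exists_rep.choose := by
    intro c c' h
    set g := c.exists_rep.choose with hg
    set g' := c'.exists_rep.choose with hg'
    have h' : Φ g = Φ g' := h
    have hmm : M g = M g' := data_inj h2 (hM g).vtag (hM g').vtag (hcan g) (hcan g')
      (single_dim_le (hdim g)) (single_dim_le (hdim g'))
      (fun i => by rw [← hΦt g i, ← hΦt g' i, h']) (fun i => by rw [← hΦg g i, ← hΦg g' i, h'])
    obtain ⟨T, hTc, hTp⟩ := exists_equiv_of_frame (hctx g) (hctx g') hnd (hM g) (hmm ▸ hM g')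
    rw [← c.exists_rep.choose_spec, ← c'.exists_rep.choose_spec, ← hg, ← hg', ConjClasses.mk_eq_mk_iff_isConj]
    set t := Matrix.toLinAlgEquiv'.symm T.toLinearMap with ht
    have htT : ∀ u, t *ᵥ u = T u := fun u => by
      rw [← Matrix.toLinAlgEquiv'_apply, ht, AlgEquiv.apply_symm_apply]
      rfl
    have htmem : t ∈ Matrix.symplecticGroup (Fin n) K := by
      rw [SymplecticGroup.mem_iff']
      refine Matrix.ext fun i j => ?_
      have := hTp (Pi.single i 1) (Pi.single j 1)
      rw [← htT, ← htT, hBapp, hBapp, ← Matrix.vecMul_transpose, ← Matrix.dotProduct_mulVec, Matrix.mulVec_mulVec,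
        Matrix.mulVec_mulVec] at this
      simpa [Matrix.mulVec_single_one] using this
    refine isConj_iff.mpr ⟨⟨t, htmem⟩, mul_inv_eq_iff_eq_mul.mpr (Subtype.ext ?_)⟩
    show t * g.1 = g'.1 * t
    refine Matrix.ext_of_mulVec_single fun i => ?_
    rw [← Matrix.mulVec_mulVec, ← Matrix.mulVec_mulVec, htT, htT, ← Matrix.toLinAlgEquiv'_apply g.1,
      ← Matrix.toLinAlgEquiv'_apply g'.1]
    exact hTc _
  exact_mod_cast Nat.card_le_card_of_injective _ hinj

end CfsgLib.IsometryTwo
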